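import Cfsg.Agent.H904.El.HS
import Cfsg.Agent.H439.Der.Three

/-!
# Elements of order 5 of `HS` (helper602)

Three classes of subgroups of order 5: centralizers of order divisible by 3, of order at most 50, and (the centre of a
Sylow 5-subgroup) of order divisible by 500 and not by 3.
-/

set_option autoImplicit false

namespace Cfsg.Agent.H602.Der.HSFive

open Cfsg.Agent.SporadicA.PermTab Cfsg.Agent.HN Cfsg.Agent.HN.HS100 Cfsg.Agent.HN.Pres Cfsg.Agent.KFacts.HS
open Cfsg.Agent.H904.CentChk Cfsg.Agent.H904.HSCent Subgroup Equiv

universe u

section pair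

variable {T : Type u} [Group T] {n : ℕ} {ψ : T →* Perm (Fin n)} {R : ℕ → ℕ → ℕ} {x : T} {tb : ℕ → ℕ}

/-- **the bound, two base points** -/
theorem card_cent_le2 (iv : ℕ → ℕ → ℕ)
    (hiv : ∀ g : T, g * x = x * g → ∀ i j : Fin n, iv (ψ g i : Fin n) (ψ g j : Fin n) = iv i j) (b c : Fin n)
    {t m : ℕ} (ht : iv b c = t)
    (hc : ((List.range n).map fun i => ((List.range n).filter fun j => Nat.beq (iv i j) t).length).sum ≤ m)
    (h1 : ∀ g : T, g * x = x * g → ψ g b = b → ψ g c = c → g = 1) :
    Finite ↥(centralizer ({x} : Set T)) ∧ Nat.card ↥(centralizer ({x} : Set T)) ≤ m := by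
  classical
  let P : Finset (Σ _ : ℕ, ℕ) := (Finset.range n).sigma fun i =>
    ((List.range n).filter fun j => Nat.beq (iv i j) t).toFinset
  have hP : P.card ≤ m := by
    refine le_trans (le_of_eq ?_) hc
    rw [Finset.card_sigma]
    have h2 : ∀ i, (((List.range n).filter fun j => Nat.beq (iv i j) t).toFinset).card =
        ((List.range n).filter fun j => Nat.beq (iv i j) t).length := fun i =>
      List.toFinset_card_of_nodup (List.Nodup.filter _ List.nodup_range)
    rw [Finset.sum_congr rfl fun i _ => h2 i]
    rw [← List.sum_toFinset _ List.nodup_range]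
    congr 1
    ext i
    simp
  let f : ↥(centralizer ({x} : Set T)) → P := fun g => ⟨⟨((ψ g.1 b : Fin n) : ℕ), ((ψ g.1 c : Fin n) : ℕ)⟩, by
    refine Finset.mem_sigma.2 ⟨Finset.mem_range.2 (ψ g.1 b).2, ?_⟩
    rw [List.mem_toFinset]
    refine List.mem_filter.2 ⟨List.mem_range.2 (ψ g.1 c).2, ?_⟩
    change Nat.beq (iv (ψ g.1 b : Fin n) (ψ g.1 c : Fin n)) t = true
    rw [hiv _ (mem_centralizer_singleton_iff.1 g.2) b c, ht]
    exact Nat.beq_refl _⟩
  have hf : Function.Injective f := by
    intro g h hgh
    have h2 := congrArg Subtype.val hgh
    simp only [f, Sigma.mk.injEq, heq_eq_eq] at h2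
    have h3 : ψ g.1 b = ψ h.1 b := Fin.ext h2.1
    have h4 : ψ g.1 c = ψ h.1 c := Fin.ext h2.2
    have h5 := mem_centralizer_singleton_iff.1 (g⁻¹ * h).2
    have h6 : (g⁻¹ * h : ↥(centralizer ({x} : Set T))).1 = 1 := by
      apply h1 _ h5
      · have : ((g⁻¹ * h : ↥(centralizer ({x} : Set T))) : T) = (g : T)⁻¹ * (h : T) := rfl
        rw [this, map_mul, Perm.mul_apply, ← h3, map_inv]
        simp
      · have : ((g⁻¹ * h : ↥(centralizer ({x} : Set T))) : T) = (g : T)⁻¹ * (h : T) := rfl
        rw [this, map_mul, Perm.mul_apply, ← h4, map_inv]
        simp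
    exact inv_mul_eq_one.1 (Subtype.ext h6)
  refine ⟨Finite.of_injective f hf, ?_⟩
  refine (Nat.card_le_card_of_injective f hf).trans ?_
  rw [Nat.card_eq_fintype_card, Fintype.card_coe]
  exact hP

end pair

/-- of order 20, with fourth power `tz5` -/
def tw20 : ℕ := 0x5817c0085e07a1500a8530c00c806037056080200110281382d80d0160200f0500b40700000907207c180240080a82584604e1442601902c0881b04d01c028228620b205c1a04807c0fc238030621600d03308803c208490520e01303c03a10c3085500c0601d0050461701784f00e15c2e8250360b42501306a108170100c6148108280ac0ec09002
def ta5 : ℕ := 0x5810c2680a0321482404200c12c090540200942784c06c0e02d8500b80081681401e00c2481608e0701580c0a20802304e0b21580203c00a1742286301c07c0681d04c0ec2084a0480781a05e0161600c0010720542202e0620c80d85506e0683082302e0bc1982807a01c2f82a0521800004006a14c2d03e04e0fc110080741880482102215c09830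
def ta5i : ℕ := 0x700180e81202a0b01d04f0a20341f82a0040f81005801c178218500aa100308540b40c02485d08e1041c8250c4170188100140300b83c06401c1385203e14c0782d032088118000340902686308a050098180160cc2b02f0380240204206c0b81a0460420782f8290361201304c002164018570960dc1a8440561800280802c16c1d83d09413814011
def tb5 : ℕ := 0xc60541402c02e1601300e0240882201f08a10808003098100288350560201705001a1180880504e0d80002f07a0502d04101610c2a05f0900242986106e1801c80607e06c1685d0180282384a0460a80f01904a12c188490261481983c0681880e8200b60a40383b03813c0d05502c0081d0560421341800101e170120570701780201807c0c82c84e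
def tb5i : ℕ := 0xc60781c0360780181800a0361040085e0100400a03d0720882884c02c0000705304c0b01203b05a1282b85907c1582005206600c218200300441a80706e1182801f0420081280d0881341886009e0a80d06108e174138090561680781c0b00a40e817064054140040be04c3104204616c248550161702582f07e0b81d04e0320d0240050a804806045
def cz : List ℕ := [0x41000000000041000000000040000001000001040, 0x1040001040001000000001000000001040, 0x40000040000041000041001000000001000000001040, 0x40000000001000000040040040001000040040001, 0x40001000000040000000040001000040040040001, 0x1000001000000040000000040040000000000040001, 0x40000000001000000040000000000040040000040001, 0x40000040001000000000000040001000040001, 0x1000001000000040001000040000000000040001, 0x41000041000041000000000040000000040001040, 0x41001040000000000000000001000000040001040, 0x40000040000000000041001000000040000000001040, 0x1000040000001000001001000040001000040001, 0x40000041000001000000000040000000000040001040, 0x1041000000000001000001040, 0x1000000040000040000000000000040001000040001, 0x1000000000040000001000000000001001000040001, 0x40000001000040000040040000000000040001, 0x41000000041000000000001000000001000001040,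 0x1000000000040000001001001000040001000040001, 0x41000000000001000000040001040, 0x40000001000040000000040001000000000040001, 0x1040000000041000000000040000001000000001040, 0x40000001000001000000000001001000040001, 0x40000001000000000000040000000000040040040001, 0x1001000000040000000001001040040000040001, 0x41000000000001000040001000000000040001, 0x40000040000001000000001001000000000040001, 0x41000000041000000000001000000001000000001040, 0x1040000000040000000040001040, 0x40000040000000000040000000001001000040001, 0x1040000001040000000000040000000040000001040, 0x1000040000040000000001001000000000040001, 0x40040000001000000000000001000040040001, 0x40001000001000001000040000000000040001, 0x40000000000001000000041001000000000000040001, 0x1040001000000040000001040, 0x40000000040001000000001001000000000040001, 0x40000000040000000000041001000000000000040001, 0x1040000000000040000040001000000040000001040, 0x40000000001000000040000040001000040040040001, 0x1001000000040000000000000040001000040001, 0x41000000000041000000000001000000040000001040, 0x41000001040000000000000001000040000001040, 0x40001000000040000040040001000040040001,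 0x1040001000001000000000000040000001000001040, 0x41000040000001000000001040, 0x1000000001000040000000000000040040040001, 0x1041040000000000000000040000001000001040, 0x41000041000040000000040000001040, 0x1000000001000040001000040000000000040001, 0x1000001000040000000000000000040040040001, 0x1041000001000000000000040000000040001040, 0x1040001040000040000040001000000001000001040, 0x40000040040000000000040001040, 0x1040041000000000001000000040000000001040, 0x1000000000001000000041000040001001000040001, 0x40000040001040000000000040000001000000001040, 0x1000001000000000001000000000040040000040001, 0x40000040000040000001000001040, 0x40000000000040000001000001001040040000040001, 0x1000001000001040001000000001000001040, 0x40000001000000000001000001001000000000040001, 0x40000040041000000000000000001000000040001040, 0x41000001040000000000000001000040000000001040, 0x1000000040000040000000000040040000040001, 0x41000000001000040000001040, 0x40000000000040000040000040001000000000040001, 0x1040001040001040000000001040000000001040, 0x1040001000000040000000001040, 0x41000041000000000001040000000001040, 0x1040000000040001000000001040,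 0x41000000000000000001040040000001000000001040, 0x41000000001040000000001000000040000000001040, 0x1040000040000040000040000000040001040, 0x40000040000001000040001000000000040001, 0x40000041040000000000000000001040000000001040, 0x40040000001000001000040001001000040001, 0x40000001000001000000000000001000040040001, 0x41001000001000000000001000000040000001040, 0x40000040040000000040000001040, 0x1000000001000040000000000000040040000040001, 0x1000000001000040000000040040000000000040001, 0x41000001000001000001040040000000040000001040, 0x40000000040001000000000000001001000040001, 0x41000000001000000001000001040, 0x40000000000001000040000000000001000040040001, 0x41000000001040000000001040, 0x41000000001000040000000001040, 0x1000000000001000001001001000000000000040001, 0x40000000001000000040000000000040040040001, 0x1000000040001000001001000000000000040001, 0x1040000000001040000000001000000040001040, 0x40000000040000000000040000000001000040040001, 0x1000000040000000000041000040000000000040001, 0x1040000041000000001000000000001000001040, 0x41000000000001000000000040001000040001, 0x1040000041000000000000000040001000000001040,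 0x1041000000001000000001040, 0x40001000000000000040040040000000000040001]

theorem invA : chkInv 100 ta5 ta5i = true := by decide +kernel
theorem invB : chkInv 100 tb5 tb5i = true := by decide +kernel

theorem inA : InG Q ta5 := mem_Q_of invA (rowsOK_of_chk (chkInv_lt invA) (chkInv_inj invA) (by decide +kernel))
  (by decide +kernel)
theorem inB : InG Q tb5 := mem_Q_of invB (rowsOK_of_chk (chkInv_lt invB) (chkInv_inj invB) (by decide +kernel))
  (by decide +kernel)
theorem in20 : InG Q tw20 := word_of (L := [tb5, ta5]) (mem2 inB inA) (by simp) (by decide +kernel)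

variable {L : Type u} [Group L] {D : KFacts.HS.Mod L} {ψ : L →* Perm (Fin 100)}

/-- codes of two cycles -/
def cc (i j : ℕ) : ℕ := (cyc (lk tz5) 5 j).foldl (fun a f => a * 64 + bitM 100 adjA i f) 0

/-- the invariant of pairs -/
def ivz (i j : ℕ) : ℕ :=
  (code (bitM 100 adjA) (lk tz5) [] 5 i * 1073741824 + code (bitM 100 adjA) (lk tz5) [] 5 j) * 1073741824 + cc i j

theorem three_not_dvd (R : Rep L D ψ) {c w : L} (hc : ∀ i : Fin 100, ((ψ c i : Fin 100) : ℕ) = lk tz5 i)
    (hw : ∀ i : Fin 100, ((ψ w i : Fin 100) : ℕ) = lk tw20 i) :
    Nat.card (centralizer ({c} : Set L)) ≤ 1000 ∧ w ^ 4 = c := by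
  constructor
  · have S := R.sys hc
    refine (card_cent_le2 (ψ := ψ) ivz (fun g hg i j => ?_) 0 1 (t := ivz 0 1) (m := 1000) rfl (by decide +kernel) ?_).2
    · have h1 := S.code_eq hg (F := []) (fun i hi => absurd hi (by simp)) (by simp) 5 i
      have h2 := S.code_eq hg (F := []) (fun i hi => absurd hi (by simp)) (by simp) 5 j
      have h3 : cc (ψ g i : Fin 100) (ψ g j : Fin 100) = cc i j := S.cyc_congr hg i 5 j 0
      rw [ivz, ivz, h1, h2, h3]
    · intro g hg h0 h1
      have f0 : Fix ψ g (cyc (lk tz5) 5 0) := S.fix_cyc hg 5 0 (by norm_num) h0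
      have f1 := f0.append (S.fix_cyc hg 5 1 (by norm_num) h1)
      have u2 := S.fix_of_unique hg f1 (by decide +kernel) 5 2 (by norm_num) (by decide +kernel)
      have f2 := f1.append (S.fix_cyc hg 5 2 (by norm_num) u2)
      have u3 := S.fix_of_unique hg f2 (by decide +kernel) 5 4 (by norm_num) (by decide +kernel)
      have f3 := f2.append (S.fix_cyc hg 5 4 (by norm_num) u3)
      have u4 := S.fix_of_unique hg f3 (by decide +kernel) 5 3 (by norm_num) (by decide +kernel)
      have f4 := f3.append (S.fix_cyc hg 5 3 (by norm_num) u4)
      exact S.eq_one hg f4 (by decide +kernel) 5 (lit := cz) (by decide +kernel) (by decide +kernel)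
  · apply R.inj
    refine Equiv.ext fun i => Fin.ext ?_
    rw [map_pow, pow_val hw, hc]
    have h4 : allB (fun i => Nat.beq ((lk tw20)^[4] i) (lk tz5 i)) 100 = true := by decide +kernel
    exact Nat.eq_of_beq_eq_true ((allB_iff _ _).1 h4 i i.2)

/-- **a nonabelian 5-subgroup with centre `⟨c⟩`; no element of order 3 commutes with `c`** -/
theorem exists_five' (R : Rep L D ψ) : ∃ u v c w : L, orderOf u = 5 ∧ orderOf v = 5 ∧ orderOf c = 5 ∧ u * c = c * u ∧
    v * c = c * v ∧ u * v = c * (v * u) ∧ Nat.card (centralizer ({c} : Set L)) ≤ 1000 ∧ w ^ 4 = c ∧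
    orderOf (w ^ 5) = 4 := by
  obtain ⟨u, hu⟩ := R.exists_of inTu
  obtain ⟨v, hv⟩ := R.exists_of inTv
  obtain ⟨w, hw⟩ := R.exists_of in20
  have key : ∀ {a b : L}, (∀ i : Fin 100, ((ψ a i : Fin 100) : ℕ) = ψ b i) → a = b := by
    intro a b h
    apply R.inj
    exact Equiv.ext fun i => Fin.ext (h i)
  obtain ⟨c, hc⟩ : ∃ c : L, u * v = c * (v * u) := ⟨u * v * (v * u)⁻¹, by group⟩
  have hcv : ∀ i : Fin 100, ((ψ c i : Fin 100) : ℕ) = lk tz5 i := by
    intro i
    have h1 : ψ c = ψ (u * v) * (ψ (v * u))⁻¹ := by
      rw [← map_inv, ← map_mul, hc]
      congr 1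
      group
    have h2 : ∀ j : Fin 100, ((ψ c (ψ (v * u) j) : Fin 100) : ℕ) = lk tz5 (ψ (v * u) j : Fin 100) := by
      intro j
      have h3 : ψ c (ψ (v * u) j) = ψ (u * v) j := by
        rw [h1, Perm.mul_apply]
        exact congrArg _ ((ψ (v * u)).symm_apply_apply j)
      rw [h3, map_mul, map_mul, Perm.mul_apply, Perm.mul_apply, hu, hv, hv, hu]
      have h4 : allB (fun i => Nat.beq (lk tu (lk tv i)) (lk tz5 (lk tv (lk tu i)))) 100 = true := by decide +kernel
      exact Nat.eq_of_beq_eq_true ((allB_iff _ _).1 h4 j j.2)
    obtain ⟨j, rfl⟩ := (ψ (v * u)).surjective i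
    exact h2 j
  obtain ⟨h1, h2⟩ := three_not_dvd R hcv hw
  have hc5 : orderOf c = 5 := R.orderOf_eq hcv (by norm_num) (by decide +kernel) 0 (by decide +kernel)
  refine ⟨u, v, c, w, R.orderOf_eq hu (by norm_num) (by decide +kernel) 1 (by decide +kernel),
    R.orderOf_eq hv (by norm_num) (by decide +kernel) 0 (by decide +kernel), hc5, key fun i => ?_, key fun i => ?_, hc,
    h1, h2, ?_⟩
  · rw [map_mul, map_mul, Perm.mul_apply, Perm.mul_apply, hu, hcv, hcv, hu]
    have h4 : allB (fun i => Nat.beq (lk tu (lk tz5 i)) (lk tz5 (lk tu i))) 100 = true := by decide +kernel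
    exact Nat.eq_of_beq_eq_true ((allB_iff _ _).1 h4 i i.2)
  · rw [map_mul, map_mul, Perm.mul_apply, Perm.mul_apply, hv, hcv, hcv, hv]
    have h4 : allB (fun i => Nat.beq (lk tv (lk tz5 i)) (lk tz5 (lk tv i))) 100 = true := by decide +kernel
    exact Nat.eq_of_beq_eq_true ((allB_iff _ _).1 h4 i i.2)
  · have : Fact (Nat.Prime 2) := ⟨Nat.prime_two⟩
    have h5 : (w ^ 5) ^ 2 ^ (1 + 1) = 1 := by
      rw [← pow_mul, show 5 * 2 ^ (1 + 1) = 4 * 5 by norm_num, pow_mul, h2, ← hc5, pow_orderOf_eq_one]
    refine orderOf_eq_prime_pow (p := 2) (n := 1) (fun h6 => ?_) h5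
    have h7 : (((ψ ((w ^ 5) ^ 2 ^ 1)) (0 : Fin 100) : Fin 100) : ℕ) = (lk tw20)^[10] (0 : Fin 100) := by
      rw [← pow_mul, show 5 * 2 ^ 1 = 10 by norm_num, map_pow, pow_val hw]
    rw [h6, map_one, Perm.one_apply] at h7
    revert h7
    decide +kernel

end Cfsg.Agent.H602.Der.HSFive
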