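import Cfsg.Agent.H602.Der.HSRow
import Cfsg.Agent.H966.Der.HS

/-!
# S3502, the row HS: the proof (helper602)
-/

set_option autoImplicit false

namespace Cfsg.Agent.H602.Der.HS

open Subgroup
open Cfsg.Agent.OrdDiv Cfsg.Agent.H257.El Cfsg.Agent.H439.Der Cfsg.Agent.H604.Sax Cfsg.Agent.H938.Sax

universe u

variable {T : Type u} [Group T] [Finite T]

omit [Finite T] in
theorem not_cent_five {b : T} (hb : ¬ 125 ∣ Nat.card (centralizer ({b} : Set T))) {P : Subgroup T}
    (hP : Nat.card P = 125) : ¬ ∀ g ∈ P, g * b = b * g := by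
  intro h
  apply hb
  rw [← hP]
  exact card_dvd_of_le fun g hg => mem_centralizer_singleton_iff.2 (h g hg)

/-- `25 ∤ |R|` -/
theorem three_of_not_sq (tab : OrderTable.{u}) (known : Known.{u}) (h : Spor.IsoHS T) {R : Subgroup T} (hR : R ≠ ⊤)
    (h25 : ¬ 25 ∣ Nat.card R) : Three T R := by
  have D := dat h
  have hfive := five
  have key : ∀ p : ℕ, p.Prime → p ∣ 44352000 → p ≠ 5 → ¬ p ∣ Nat.card R → Three T R := by
    intro p hp hd h5 hn
    have := Fact.mk hp
    obtain ⟨w, hw⟩ := exists_prime_orderOf_dvd_card' (G := T) p (by rw [D.card]; exact hd)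
    exact D.not_sq h25 (noIm_of_prime hn hw) (by rw [hw]; exact h5)
  by_cases h2 : 2 ∣ Nat.card R; swap
  · exact key 2 (by norm_num) (by norm_num) (by norm_num) h2
  by_cases h3 : 3 ∣ Nat.card R; swap
  · exact key 3 (by norm_num) (by norm_num) (by norm_num) h3
  by_cases h7 : 7 ∣ Nat.card R; swap
  · exact key 7 (by norm_num) (by norm_num) (by norm_num) h7
  by_cases h11 : 11 ∣ Nat.card R; swap
  · exact key 11 (by norm_num) (by norm_num) (by norm_num) h11
  by_cases h5 : 5 ∣ Nat.card R; swap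
  · obtain ⟨a, ha, ha1, ha3⟩ := D.fiveA
    obtain ⟨b, hb, hb3, hb50⟩ := D.fiveB
    obtain ⟨c, hc, hc50⟩ := D.fiveC
    have ha125 := Nat.le_of_dvd Nat.card_pos ha1
    exact three_of_inv (noIm_of_prime h5 ha) (noIm_of_prime h5 hb) (noIm_of_prime h5 hc)
      (inv_ne_of_card fun h => ha3 (by rw [h]; exact hb3)) (inv_ne_of_card (by omega)) (inv_ne_of_card (by omega))
  · have hm := full_hs tab known h hR (by
      intro p hp hd
      have h1 : p ∣ 2 ^ 9 * 3 ^ 2 * 5 ^ 3 * 7 * 11 := hd.trans (by norm_num)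
      rw [hp.dvd_mul, hp.dvd_mul, hp.dvd_mul, hp.dvd_mul] at h1
      rcases h1 with (((h1 | h1) | h1) | h1) | h1
      · rw [(Nat.prime_dvd_prime_iff_eq hp (by norm_num)).1 (hp.dvd_of_dvd_pow h1)]; exact h2
      · rw [(Nat.prime_dvd_prime_iff_eq hp (by norm_num)).1 (hp.dvd_of_dvd_pow h1)]; exact h3
      · rw [(Nat.prime_dvd_prime_iff_eq hp (by norm_num)).1 (hp.dvd_of_dvd_pow h1)]; exact h5
      · rw [(Nat.prime_dvd_prime_iff_eq hp (by norm_num)).1 h1]; exact h7
      · rw [(Nat.prime_dvd_prime_iff_eq hp (by norm_num)).1 h1]; exact h11)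
    obtain ⟨w, hw⟩ := D.ten
    refine D.not_sq h25 (w := w) (noIm_of_order hw fun m hm' => ?_) (by rw [hw]; norm_num)
    intro h10
    exact NoNine.iso_m22 hm ⟨m, hm'⟩ (by rw [Subgroup.orderOf_mk, h10])

/-- `3 ∤ |R|` -/
theorem three_of_not_three (D : Dat T) {R : Subgroup T} (h3 : ¬ 3 ∣ Nat.card R) : Three T R := by
  have h3' : Fact (Nat.Prime 3) := ⟨by norm_num⟩
  obtain ⟨x, hx⟩ := exists_prime_orderOf_dvd_card' (G := T) 3 (by rw [D.card]; norm_num)
  obtain ⟨y, hy⟩ := D.twelve
  obtain ⟨z, hz⟩ := D.fifteen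
  exact three_of_inv (noIm_of_prime h3 hx) (noIm_of_dvd h3 (by rw [hy]; norm_num))
    (noIm_of_dvd h3 (by rw [hz]; norm_num)) (inv_ne_of_order (by rw [hx, hy]; norm_num))
    (inv_ne_of_order (by rw [hx, hz]; norm_num)) (inv_ne_of_order (by rw [hy, hz]; norm_num))

/-- `11 ∣ |R|`, `25 ∣ |R|` -/
theorem not_three_dvd (tab : OrderTable.{u}) (known : Known.{u}) (h : Spor.IsoHS T) {R : Subgroup T} (hR : R ≠ ⊤)
    (h11 : 11 ∣ Nat.card R) (h25 : 25 ∣ Nat.card R) : ¬ 3 ∣ Nat.card R := by
  intro h3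
  have hc := (dat h).card
  have S : H966.Der.Sit T 44352000 H966.Der.HS.l 11 R :=
    ⟨tab, known, hc, H966.Der.HS.valid_l, by norm_num, by norm_num, h11, hR⟩
  obtain ⟨O, hO, N, hT⟩ := S.exists_top
  have hNn := hT.normal
  have hd := S.dvd_simple hT (s := 3) (by norm_num) (H966.Der.HS.iso_11 h 3 (by norm_num) (by norm_num))
    (by decide +kernel) h3
  have hna := Cfsg.Agent.H257.El.Sit.not_comm_of_dvd hT (by norm_num) (by norm_num) hd
  obtain ⟨g, hg, hr, hgc⟩ := S.exists_surv hT hna [3] (by simpa using hd)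
  have h1 : ∀ g ∈ surv 44352000 H966.Der.HS.l 11 [3],
      ordN g = 660 ∨ ordN g = 7920 ∨ ordN g = 443520 := by decide +kernel
  have hO5 : ¬ 5 ∣ Nat.card O := hT.not_dvd_core (by norm_num) (by norm_num)
    (Cfsg.Agent.H257.El.Sit.noR (H966.Der.HS.iso_11 h 5 (by norm_num) (by norm_num))) fun b hb hd => by
      have h1 := hd.trans S.dvd_n
      have h2 : b ≤ 3 := by
        by_contra h3
        have := (pow_dvd_pow 5 (show 4 ≤ b by omega)).trans h1
        norm_num at this
      interval_cases b <;> norm_num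
  have hi := S.index_dvd hT (H966.Der.HS.iso_11 h) (by rw [hgc]; rcases h1 g hg with h2 | h2 | h2 <;> rw [h2] <;> norm_num)
  have hi1 : N.index = 1 := by
    rw [hgc] at hi
    rcases h1 g hg with h2 | h2 | h2 <;>
    · rw [h2] at hi
      norm_num at hi
      exact H966.Der.eq_one_of_mul_dvd (by norm_num) hi
  rw [← card_quot_mul O, ← Subgroup.card_mul_index N, hi1, mul_one] at h25
  have h3 : 5 ^ 2 ∣ Nat.card N :=
    Nat.Coprime.dvd_of_dvd_mul_right (Nat.Coprime.pow_left 2 ((Nat.Prime.coprime_iff_not_dvd (by norm_num)).2 hO5))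
      (by norm_num; exact h25)
  rw [hgc] at h3
  rcases h1 g hg with h2 | h2 | h2 <;> rw [h2] at h3 <;> norm_num at h3

/-- `7 ∣ |R|`, `25 ∣ |R|`, `11 ∤ |R|` : `U3(5)` or `U3(5).2` -/
theorem psu_case (tab : OrderTable.{u}) (known : Known.{u}) (h : Spor.IsoHS T) {R : Subgroup T} (hR : R ≠ ⊤)
    (h7 : 7 ∣ Nat.card R) (h25 : 25 ∣ Nat.card R) (h11 : ¬ 11 ∣ Nat.card R) :
    (∀ m ∈ R, orderOf m ≠ 15) ∧ (Nat.card R = 252000 ∨ (Nat.card R = 126000 ∧ ∀ m ∈ R, orderOf m ≠ 20)) := by
  have D := dat h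
  have hc := D.card
  have hfive := five
  have S : H966.Der.Sit T 44352000 H966.Der.HS.l 7 R :=
    ⟨tab, known, hc, H966.Der.HS.valid_l, by norm_num, by norm_num, h7, hR⟩
  obtain ⟨O, hO, N, hT⟩ := S.exists_top
  have hNn := hT.normal
  have hd := S.pow_dvd hT (s := 5) (k := 2) (by norm_num) (H966.Der.HS.iso_7 h 5 (by norm_num) (by norm_num)) (by decide +kernel) h25
  have hna := Cfsg.Agent.H257.El.Sit.not_comm_of_dvd hT (s := 5) (by norm_num) (by norm_num)
    ((dvd_pow_self 5 (by norm_num)).trans hd)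
  obtain ⟨g, hg, hr, hgc⟩ := S.exists_surv hT hna [25] (by simpa using hd)
  have hg' := H966.Der.mem_of_chkSurv (L := [.psu 3 5]) (by decide +kernel) hg
  rw [List.mem_singleton] at hg'
  subst hg'
  have hgc' : Nat.card N = 126000 := by rw [hgc]; decide +kernel
  have hi := S.index_dvd hT (H966.Der.HS.iso_7 h) (by rw [hgc']; norm_num)
  rw [hgc'] at hi
  norm_num at hi
  have hi2 : N.index ∣ 2 := by
    have h1 : N.index * 3 ∣ 2 * 3 := hi
    exact Nat.dvd_of_mul_dvd_mul_right (by norm_num) h1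
  -- the core
  have hO2 : Nat.card O ∣ 352 := S.core_dvd (N := N) (by rw [hgc'])
  have hcR : Nat.card R = 126000 * N.index * Nat.card O := by
    rw [← card_quot_mul O, ← Subgroup.card_mul_index N, hgc']
  have hO11 : ¬ 11 ∣ Nat.card O := fun h1 => h11 (h1.trans (by rw [hcR]; exact dvd_mul_left _ _))
  have hO32 : Nat.card O ∣ 2 ^ 5 := by
    have h1 : Nat.Coprime (Nat.card O) 11 := ((Nat.Prime.coprime_iff_not_dvd (by norm_num)).2 hO11).symm
    refine h1.dvd_of_dvd_mul_right (n := 11) (hO2.trans (by norm_num))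
  have hO1 : Nat.card O = 1 := by
    obtain ⟨k, hk, hkc⟩ := (Nat.dvd_prime_pow (by norm_num : Nat.Prime 2)).1 hO32
    have hnoM : ∀ p : ℕ, p.Prime → 7 ≠ p → ∀ z : R, orderOf z ≠ 7 * p :=
      fun p hp hrp => Cfsg.Agent.H257.El.Sit.noR (H966.Der.HS.iso_7 h p hp hrp)
    have h1 := H966.Der.card_core_mod hT hnoM
    rw [hkc] at h1 ⊢
    have h2 : k = 0 ∨ k = 3 := by
      interval_cases k
      · exact Or.inl rfl
      · exact absurd h1 (by decide)
      · exact absurd h1 (by decide)
      · exact Or.inr rfl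
      · exact absurd h1 (by decide)
      · exact absurd h1 (by decide)
    rcases h2 with rfl | rfl
    · norm_num
    exfalso
    -- a Sylow 5-subgroup of `R` acts on the involutions of `O`
    obtain ⟨P, hP⟩ := Sylow.exists_subgroup_card_pow_prime (G := R) 5 (n := 3)
      (by rw [hcR]; exact (Dvd.dvd.mul_right (Dvd.dvd.mul_right (by norm_num) _) _))
    have hP' : Nat.card (P.map R.subtype) = 125 := by
      rw [Subgroup.card_map_of_injective R.subtype_injective, hP]; norm_num
    have h3 := D.cube.dvd_card hP' {x : T | x ∈ O.map R.subtype ∧ orderOf x = 2} (by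
      rintro _ ⟨g, -, rfl⟩ _ ⟨⟨a, ha, rfl⟩, ha2⟩
      refine ⟨⟨g * a * g⁻¹, hO.conj_mem a ha g, by simp⟩, ?_⟩
      change orderOf ((g : T) * (a : T) * (g : T)⁻¹) = 2
      rw [H439.Der.orderOf_conj]
      exact ha2) (fun a ha => Or.inl ha.2)
    have h4 : Nat.card ({x : T | x ∈ O.map R.subtype ∧ orderOf x = 2} : Set T) < 8 := by
      have h5 : Nat.card ({x : T | x ∈ O.map R.subtype ∧ orderOf x = 2} : Set T) ≤
          Nat.card (((O.map R.subtype : Subgroup T) : Set T) \ {1} : Set T) := by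
        refine Nat.card_mono (Set.toFinite _) ?_
        rintro x ⟨hx, hx2⟩
        refine ⟨hx, ?_⟩
        rintro rfl
        rw [orderOf_one] at hx2
        norm_num at hx2
      rw [card_diff_one, Subgroup.card_map_of_injective R.subtype_injective, hkc] at h5
      omega
    have h5 : Nat.card ({x : T | x ∈ O.map R.subtype ∧ orderOf x = 2} : Set T) = 0 := by omega
    have h2' : Fact (Nat.Prime 2) := ⟨by norm_num⟩
    obtain ⟨a, ha⟩ := exists_prime_orderOf_dvd_card' (G := O) 2 (by rw [hkc]; norm_num)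
    rw [Finite.card_eq_zero_iff] at h5
    exact h5.elim ⟨((a : R) : T), ⟨(a : R), a.2, rfl⟩, by rw [Subgroup.orderOf_coe, Subgroup.orderOf_coe, ha]⟩
  have h15 : ∀ m ∈ R, orderOf m ≠ 15 := by
    intro m hm hmo
    obtain ⟨w, hw⟩ := H966.Der.Sit.exists_of_coprime hm (O := O) (N := N)
      (by rw [hO1]; exact Nat.coprime_one_right _) hNn
      (by rw [hmo]; exact Nat.Coprime.coprime_dvd_right hi2 (by norm_num))
    exact H966.Der.no_15_u35 hr w (by rw [hw, hmo])
  refine ⟨h15, ?_⟩
  rcases (Nat.dvd_prime (by norm_num : Nat.Prime 2)).1 hi2 with h1 | h1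
  · right
    refine ⟨by rw [hcR, h1, hO1], fun m hm hmo => ?_⟩
    obtain ⟨w, hw⟩ := H966.Der.Sit.exists_of_coprime hm (O := O) (N := N)
      (by rw [hO1]; exact Nat.coprime_one_right _) hNn
      (by rw [h1]; exact Nat.coprime_one_right _)
    obtain ⟨F, _, _, hF, ⟨e⟩⟩ := (show Real (.psu 3 5) N from hr)
    have h2 := H966.Der.order_u35 hF (e w)
    rw [MulEquiv.orderOf_eq, hw, hmo] at h2
    norm_num at h2
  · left
    rw [hcR, h1, hO1]

/-- the number of a Sylow subgroup -/
theorem fac_eq {m k : ℕ} (hm : m ≠ 0) (h1 : 5 ^ k ∣ m) (h2 : ¬ 5 ^ (k + 1) ∣ m) : m.factorization 5 = k := by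
  apply le_antisymm
  · by_contra hcon
    exact h2 (((by norm_num : Nat.Prime 5).pow_dvd_iff_le_factorization hm).2 (by omega))
  · exact ((by norm_num : Nat.Prime 5).pow_dvd_iff_le_factorization hm).1 h1

theorem exists_sylow_cent {b : T} (hb : orderOf b = 5) (h1 : 125 ∣ Nat.card (centralizer ({b} : Set T)))
    (h4 : ¬ 5 ^ 4 ∣ Nat.card T) : ∃ A : Subgroup T, Nat.card A = 125 ∧ b ∈ A ∧ ∀ g ∈ A, g * b = b * g := by
  have hfive := five
  have hbC : b ∈ centralizer ({b} : Set T) := mem_centralizer_singleton_iff.2 rfl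
  have h2 : IsPGroup 5 (zpowers (⟨b, hbC⟩ : centralizer ({b} : Set T))) :=
    IsPGroup.of_card (n := 1) (by rw [Nat.card_zpowers, Subgroup.orderOf_mk, hb, pow_one])
  obtain ⟨S, hS⟩ := h2.exists_le_sylow
  refine ⟨(S : Subgroup _).map (centralizer ({b} : Set T)).subtype, ?_, ⟨⟨b, hbC⟩, hS (mem_zpowers _), rfl⟩, ?_⟩
  · rw [Subgroup.card_map_of_injective (Subgroup.subtype_injective _)]
    have h5 := S.card_eq_multiplicity
    rw [fac_eq (k := 3) Nat.card_pos.ne' (by norm_num; exact h1)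
      fun h => h4 (h.trans (Subgroup.card_subgroup_dvd_card _))] at h5
    rw [show (125 : ℕ) = 5 ^ 3 by norm_num]
    exact h5
  · rintro _ ⟨g, -, rfl⟩
    exact mem_centralizer_singleton_iff.1 g.2

/-- **All proper subgroups.** -/
theorem three_or (tab : OrderTable.{u}) (known : Known.{u}) (h : Spor.IsoHS T) {R : Subgroup T} (hR : R ≠ ⊤) :
    Three T R ∨ (Two T R ∧ Nat.card R = 252000) := by
  have D := dat h
  have hfive := five
  have h7' : Fact (Nat.Prime 7) := ⟨by norm_num⟩
  have h11' : Fact (Nat.Prime 11) := ⟨by norm_num⟩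
  by_cases h25 : 25 ∣ Nat.card R; swap
  · exact Or.inl (three_of_not_sq tab known h hR h25)
  by_cases h11 : 11 ∣ Nat.card R
  · exact Or.inl (three_of_not_three D (not_three_dvd tab known h hR h11 h25))
  obtain ⟨x, hx⟩ := exists_prime_orderOf_dvd_card' (G := T) 11 (by rw [D.card]; norm_num)
  have hxR := noIm_of_prime h11 hx
  by_cases h7 : 7 ∣ Nat.card R
  · obtain ⟨h1, h2⟩ := psu_case tab known h hR h7 h25 h11
    obtain ⟨y, hy⟩ := D.fifteen
    have hyR := noIm_of_order hy h1
    rcases h2 with h2 | ⟨h2, h3⟩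
    · exact Or.inr ⟨two_of_inv hxR hyR (inv_ne_of_order (by rw [hx, hy]; norm_num)), h2⟩
    · left
      obtain ⟨z, hz⟩ := D.twenty
      exact three_of_inv hxR hyR (noIm_of_order hz h3) (inv_ne_of_order (by rw [hx, hy]; norm_num))
        (inv_ne_of_order (by rw [hx, hz]; norm_num)) (inv_ne_of_order (by rw [hy, hz]; norm_num))
  · left
    obtain ⟨y, hy⟩ := exists_prime_orderOf_dvd_card' (G := T) 7 (by rw [D.card]; norm_num)
    have hyR := noIm_of_prime h7 hy
    have hRd : Nat.card R ∣ 576000 := by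
      have h1 : Nat.card R ∣ 576000 * 77 := by
        have h2 := dvd_n (R := R) D.card
        rwa [show (44352000 : ℕ) = 576000 * 77 by norm_num] at h2
      refine Nat.Coprime.dvd_of_dvd_mul_right ?_ h1
      rw [show (77 : ℕ) = 7 * 11 by norm_num]
      exact Nat.Coprime.mul_right ((Nat.Prime.coprime_iff_not_dvd (by norm_num)).2 h7).symm
        ((Nat.Prime.coprime_iff_not_dvd (by norm_num)).2 h11).symm
    by_cases h125 : 125 ∣ Nat.card R
    · obtain ⟨z, hz⟩ := D.fifteen
      exact three_of_inv hxR hyR (noIm_of_order hz (D.cube.no_fifteen tab known h125 hRd))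
        (inv_ne_of_order (by rw [hx, hy]; norm_num))
        (inv_ne_of_order (by rw [hx, hz]; norm_num)) (inv_ne_of_order (by rw [hy, hz]; norm_num))
    · -- the Sylow 5-subgroup has order 25
      obtain ⟨b, hb, hb3, hb50⟩ := D.fiveB
      obtain ⟨c, hc, hc50⟩ := D.fiveC
      have hbc : Nat.card (centralizer ({b} : Set T)) ≠ Nat.card (centralizer ({c} : Set T)) := by omega
      have key : NoIm R b ∨ NoIm R c := by
        by_contra hcon
        unfold NoIm at hcon
        push Not at hcon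
        obtain ⟨⟨α, hα⟩, ⟨β, hβ⟩⟩ := hcon
        -- Sylow subgroup of `R`
        obtain ⟨Q⟩ : Nonempty (Sylow 5 R) := inferInstance
        have hQ : Nat.card Q = 25 := by
          rw [Q.card_eq_multiplicity, fac_eq (k := 2) Nat.card_pos.ne' (by norm_num; exact h25) (by norm_num; exact h125)]
          norm_num
        set E : Subgroup T := (Q : Subgroup R).map R.subtype with hE
        have hEc : Nat.card E = 25 := by
          rw [hE, Subgroup.card_map_of_injective R.subtype_injective]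
          exact hQ
        have hEp : IsPGroup 5 E := IsPGroup.of_card (n := 2) (by rw [hEc]; norm_num)
        obtain ⟨P, hEP⟩ := hEp.exists_le_sylow
        have hPc : Nat.card P = 125 := by
          rw [P.card_eq_multiplicity, D.card, fac_eq (k := 3) (by norm_num) (by norm_num) (by norm_num)]
          norm_num
        -- conjugates in `E`
        have conj : ∀ y : T, y ∈ R → orderOf y = 5 → ∃ g : T, g * y * g⁻¹ ∈ E := by
          intro y hy hy5
          have h1 : IsPGroup 5 (zpowers (⟨y, hy⟩ : R)) :=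
            IsPGroup.of_card (n := 1) (by rw [Nat.card_zpowers, Subgroup.orderOf_mk, hy5, pow_one])
          obtain ⟨Q', hQ'⟩ := h1.exists_le_sylow
          obtain ⟨g, hg⟩ := MulAction.exists_smul_eq R Q' Q
          refine ⟨(g : T), ⟨g * ⟨y, hy⟩ * g⁻¹, ?_, rfl⟩⟩
          rw [← hg]
          exact ⟨⟨y, hy⟩, hQ' (mem_zpowers _), rfl⟩
        obtain ⟨g1, hg1⟩ := conj _ hα (by rw [orderOf_mulEquiv, hb])
        obtain ⟨g2, hg2⟩ := conj _ hβ (by rw [orderOf_mulEquiv, hc])
        apply hbc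
        have e1 : Nat.card (centralizer ({g1 * α b * g1⁻¹} : Set T)) = Nat.card (centralizer ({b} : Set T)) := by
          rw [card_cent_conj, card_cent_aut]
        have e2 : Nat.card (centralizer ({g2 * β c * g2⁻¹} : Set T)) = Nat.card (centralizer ({c} : Set T)) := by
          rw [card_cent_conj, card_cent_aut]
        rw [← e1, ← e2]
        refine PCube.card_cent_eq (p := 5) (P := P) (E := E) (by rw [hPc]; norm_num) (D.cube.na P hPc) hEP
          (by rw [hEc]; norm_num) hg1 hg2 ?_ ?_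
        · refine not_cent_five ?_ hPc
          rw [e1]
          intro h1
          obtain ⟨A', hA'c, hbA, hAb⟩ := exists_sylow_cent hb h1 (by rw [D.card]; norm_num)
          have h3' : Fact (Nat.Prime 3) := ⟨by norm_num⟩
          obtain ⟨t, ht⟩ := exists_prime_orderOf_dvd_card' (G := ↥(centralizer ({b} : Set T))) 3 hb3
          exact D.cube.cent A' hA'c b hbA (by rintro rfl; rw [orderOf_one] at hb; norm_num at hb) hAb (t : T)
            (by rw [Subgroup.orderOf_coe, ht]) (mem_centralizer_singleton_iff.1 t.2)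
        · refine not_cent_five ?_ hPc
          rw [e2]
          intro h1
          have := Nat.le_of_dvd Nat.card_pos h1
          omega
      rcases key with h1 | h1
      · exact three_of_inv hxR hyR h1 (inv_ne_of_order (by rw [hx, hy]; norm_num))
          (inv_ne_of_order (by rw [hx, hb]; norm_num)) (inv_ne_of_order (by rw [hy, hb]; norm_num))
      · exact three_of_inv hxR hyR h1 (inv_ne_of_order (by rw [hx, hy]; norm_num))
          (inv_ne_of_order (by rw [hx, hc]; norm_num)) (inv_ne_of_order (by rw [hy, hc]; norm_num))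

/-- **The row `HS`.** -/
theorem rowS_of (tab : OrderTable.{u}) (known : Known.{u}) {T : Type u} [Group T] (h : Spor.IsoHS T) : RowS T := by
  have : Finite T := Nat.finite_of_card_ne_zero (by rw [(dat h).card]; norm_num)
  refine RowS.of_coatoms fun M hM => ?_
  rcases three_or tab known h hM.1 with h1 | ⟨h1, h2⟩
  · exact Or.inl h1
  · refine Or.inr ⟨h1, fun R hR => ?_⟩
    have hRT : R ≠ ⊤ := fun h3 => hM.1 (top_le_iff.1 (h3 ▸ hR.le))
    rcases three_or tab known h hRT with h3 | ⟨-, h3⟩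
    · exact h3
    · exact absurd (Subgroup.eq_of_le_of_card_ge hR.le (by rw [h2, h3])) hR.ne

end Cfsg.Agent.H602.Der.HS
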