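import Cfsg.Agent.H602.Der.NoFifteen
import Cfsg.Agent.H602.Der.HSFive
import Cfsg.Agent.H604.Sax.RowsCo
import Cfsg.Agent.H450.NF.Local
import Cfsg.Agent.H153.ZerosHS

/-!
# S3502, the row HS (helper602)
-/

set_option autoImplicit false

namespace Cfsg.Agent.H602.Der

open Subgroup
open Cfsg.Agent.OrdDiv Cfsg.Agent.H257.El Cfsg.Agent.H439.Der Cfsg.Agent.H604.Sax Cfsg.Agent.H938.Sax

universe u

section cube

variable {T : Type u} [Group T] [Finite T]

/-- the condition `Cube` for one subgroup of order 125 -/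
theorem cube_of (h4 : ¬ 5 ^ 4 ∣ Nat.card T) {P : Subgroup T} (hP : Nat.card P = 125)
    (hna : ¬ ∀ a ∈ P, ∀ b ∈ P, a * b = b * a) {c : T} (hc : c ∈ P) (hc5 : orderOf c = 5)
    (hcc : ∀ g ∈ P, g * c = c * g) (h3 : ¬ 3 ∣ Nat.card (centralizer ({c} : Set T)))
    (two : ∀ i : T, orderOf i = 2 → ¬ 25 ∣ Nat.card (centralizer ({i} : Set T))) : Cube T := by
  have := five
  have hfac : (Nat.card T).factorization 5 = 3 := by
    apply le_antisymm
    · by_contra hc
      exact h4 (((by norm_num : Nat.Prime 5).pow_dvd_iff_le_factorization Nat.card_pos.ne').2 (by omega))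
    · refine ((by norm_num : Nat.Prime 5).pow_dvd_iff_le_factorization Nat.card_pos.ne').1 ?_
      have h5 : Nat.card P ∣ Nat.card T := card_subgroup_dvd_card P
      rw [hP] at h5
      exact h5
  have key : ∀ Q : Subgroup T, Nat.card Q = 125 → ∃ g : T, (∀ x ∈ Q, g * x * g⁻¹ ∈ P) ∧ ∀ x ∈ P, g⁻¹ * x * g ∈ Q := by
    intro Q hQ
    obtain ⟨g, hg⟩ := MulAction.exists_smul_eq T (Sylow.ofCard Q (by rw [hQ, hfac]; norm_num))
      (Sylow.ofCard P (by rw [hP, hfac]; norm_num))
    have hg' : (Q.map (MulAut.conj g).toMonoidHom) = P := by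
      have h5 := congrArg (fun S : Sylow 5 T => (S : Subgroup T)) hg
      rw [Sylow.coe_subgroup_smul] at h5
      exact h5
    refine ⟨g, fun x hx => ?_, fun x hx => ?_⟩
    · rw [← hg']
      exact ⟨x, hx, rfl⟩
    · rw [← hg'] at hx
      obtain ⟨y, hy, rfl⟩ := hx
      have h6 : g⁻¹ * (MulAut.conj g).toMonoidHom y * g = y := by
        change g⁻¹ * (g * y * g⁻¹) * g = y
        group
      rw [h6]
      exact hy
  have hn : ¬ ∀ a b : P, a * b = b * a := fun h => hna fun a ha b hb => congrArg Subtype.val (h ⟨a, ha⟩ ⟨b, hb⟩)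
  refine ⟨fun Q hQ hQa => ?_, fun Q hQ z hz hz1 hzc t ht htz => ?_, two⟩
  · obtain ⟨g, -, hg⟩ := key Q hQ
    apply hna
    intro a ha b hb
    have h5 := hQa _ (hg a ha) _ (hg b hb)
    calc a * b = g * ((g⁻¹ * a * g) * (g⁻¹ * b * g)) * g⁻¹ := by group
      _ = g * ((g⁻¹ * b * g) * (g⁻¹ * a * g)) * g⁻¹ := by rw [h5]
      _ = b * a := by group
  · obtain ⟨g, hg1, hg2⟩ := key Q hQ
    apply h3
    -- the conjugates
    set z' := g * z * g⁻¹ with hz'
    set t' := g * t * g⁻¹ with ht'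
    have hz'P : z' ∈ P := hg1 z hz
    have hz'c : ∀ x ∈ P, x * z' = z' * x := by
      intro x hx
      have h5 := hzc _ (hg2 x hx)
      calc x * z' = g * ((g⁻¹ * x * g) * z) * g⁻¹ := by rw [hz']; group
        _ = g * (z * (g⁻¹ * x * g)) * g⁻¹ := by rw [h5]
        _ = z' * x := by rw [hz']; group
    have hz'1 : z' ≠ 1 := by
      intro h
      apply hz1
      have h5 : z = g⁻¹ * z' * g := by rw [hz']; group
      rw [h5, h]; group
    have htz' : t' * z' = z' * t' := by
      calc t' * z' = g * (t * z) * g⁻¹ := by rw [ht', hz']; group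
        _ = g * (z * t) * g⁻¹ := by rw [htz]
        _ = z' * t' := by rw [ht', hz']; group
    have ht'3 : orderOf t' = 3 := by rw [ht', H439.Der.orderOf_conj, ht]
    -- the centre
    have hZ := PCube.card_center (p := 5) (by rw [hP]; norm_num) hn
    have hzp : zpowers (⟨z', hz'P⟩ : P) = center P := by
      apply eq_of_le_of_card_ge
      · rw [zpowers_le, mem_center_iff]
        exact fun x => Subtype.ext (hz'c x x.2)
      · rw [hZ, Nat.card_zpowers, Subgroup.orderOf_mk]
        have h5 : orderOf z' ∣ 5 := by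
          have h6 : (⟨z', hz'P⟩ : P) ∈ center P := mem_center_iff.2 fun x => Subtype.ext (hz'c x x.2)
          have h7 := Subgroup.orderOf_dvd_natCard _ h6
          rwa [hZ, Subgroup.orderOf_mk] at h7
        rcases (Nat.dvd_prime (by norm_num : Nat.Prime 5)).1 h5 with h6 | h6
        · exact absurd (orderOf_eq_one_iff.1 h6) hz'1
        · exact h6.ge
    have hcz : (⟨c, hc⟩ : P) ∈ zpowers (⟨z', hz'P⟩ : P) := by
      rw [hzp, mem_center_iff]
      exact fun x => Subtype.ext (hcc x x.2)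
    obtain ⟨j, hj⟩ := mem_zpowers_iff.1 hcz
    have hj' : z' ^ j = c := congrArg Subtype.val hj
    have htc : t' * c = c * t' := by
      rw [← hj']
      exact ((show Commute t' z' from htz').zpow_right j).eq
    have h5 : t' ∈ centralizer ({c} : Set T) := mem_centralizer_singleton_iff.2 htc
    have h6 := Subgroup.orderOf_dvd_natCard _ h5
    rwa [ht'3] at h6

/-- a nonabelian subgroup generated by `u` and `v` -/
theorem exists_sub {u v c : T} (h4 : ¬ 5 ^ 4 ∣ Nat.card T) (hu : orderOf u = 5) (hv : orderOf v = 5)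
    (hc : orderOf c = 5) (huc : u * c = c * u) (hvc : v * c = c * v) (h : u * v = c * (v * u)) :
    ∃ P : Subgroup T, Nat.card P = 125 ∧ (¬ ∀ a ∈ P, ∀ b ∈ P, a * b = b * a) ∧ c ∈ P ∧ ∀ g ∈ P, g * c = c * g := by
  have := five
  obtain ⟨H, hH, huH, hvH, hcH, hHc⟩ := PCube.exists_sub_five (by rw [← hu, pow_orderOf_eq_one])
    (by rw [← hv, pow_orderOf_eq_one]) (by rw [← hc, pow_orderOf_eq_one]) huc hvc h
  have hna : ¬ ∀ a ∈ H, ∀ b ∈ H, a * b = b * a := by
    intro h1
    have h2 := h1 u huH v hvH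
    rw [h] at h2
    have h3 : c = 1 := by
      calc c = c * (v * u) * (v * u)⁻¹ := by group
        _ = 1 := by rw [h2]; group
    rw [h3, orderOf_one] at hc
    norm_num at hc
  refine ⟨H, ?_, hna, hcH, hHc⟩
  obtain ⟨k, hk⟩ := IsPGroup.iff_card.1 hH
  have hk3 : k ≤ 3 := by
    by_contra hc
    apply h4
    refine (pow_dvd_pow 5 (by omega : 4 ≤ k)).trans ?_
    rw [← hk]
    exact card_subgroup_dvd_card H
  have comm : (∀ a b : H, a * b = b * a) → False := fun h1 =>
    hna fun a ha b hb => congrArg Subtype.val (h1 ⟨a, ha⟩ ⟨b, hb⟩)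
  interval_cases k
  · exfalso
    have h1 : H = ⊥ := card_eq_one.1 (by rw [hk, pow_zero])
    rw [h1, mem_bot] at hcH
    rw [hcH, orderOf_one] at hc
    norm_num at hc
  · exfalso
    have h1 : IsCyclic H := isCyclic_of_prime_card (p := 5) (by rw [hk, pow_one])
    exact comm (IsCyclic.isMulCommutative (α := H)).is_comm.comm
  · exfalso
    exact comm (IsPGroup.isMulCommutative_of_card_eq_prime_sq (p := 5) hk).is_comm.comm
  · rw [hk]; norm_num

end cube

namespace HS

/-- the data -/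
structure Dat (T : Type u) [Group T] : Prop where
  card : Nat.card T = 44352000
  seven : SelfC T 7
  eleven : SelfC T 11
  cube : Cube T
  fiveA : ∃ a : T, orderOf a = 5 ∧ 125 ∣ Nat.card (centralizer ({a} : Set T)) ∧
    ¬ 3 ∣ Nat.card (centralizer ({a} : Set T))
  fiveB : ∃ b : T, orderOf b = 5 ∧ 3 ∣ Nat.card (centralizer ({b} : Set T)) ∧
    50 < Nat.card (centralizer ({b} : Set T))
  fiveC : ∃ c : T, orderOf c = 5 ∧ Nat.card (centralizer ({c} : Set T)) ≤ 50
  ten : ∃ x : T, orderOf x = 10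
  twelve : ∃ x : T, orderOf x = 12
  fifteen : ∃ x : T, orderOf x = 15
  twenty : ∃ x : T, orderOf x = 20

open Cfsg.Agent.HN Cfsg.Agent.HN.HS100 in
theorem exists_ord {L : Type u} [Group L] (h : Cfsg.Spor.IsoHS L) {m : ℕ} (hm : H92.KTools.HasOrd Q m) :
    ∃ x : L, orderOf x = m := H153.Zeros.hs_ord h hm

theorem dat {T : Type u} [Group T] (h : Cfsg.Spor.IsoHS T) : Dat T := by
  have hc := NotCT.Orders.hs h
  have : Finite T := Nat.finite_of_card_ne_zero (by rw [hc]; norm_num)
  obtain ⟨D, ψ, Rp⟩ := H904.HSCent.exists_rep h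
  obtain ⟨u, v, c, w, hu, hv, hc5, huc, hvc, huv, hle, hw, hw4⟩ := HSFive.exists_five' Rp
  have h4 : ¬ 5 ^ 4 ∣ Nat.card T := by rw [hc]; norm_num
  obtain ⟨P, hP, hna, hcP, hcc⟩ := exists_sub h4 hu hv hc5 huc hvc huv
  have h125 : 125 ∣ Nat.card (centralizer ({c} : Set T)) := by
    rw [← hP]
    refine card_dvd_of_le fun g hg => ?_
    exact mem_centralizer_singleton_iff.2 (hcc g hg)
  have h4c : 4 ∣ Nat.card (centralizer ({c} : Set T)) := by
    rw [← hw4]
    apply Subgroup.orderOf_dvd_natCard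
    rw [mem_centralizer_singleton_iff, ← hw]
    exact ((Commute.refl w).pow_pow 5 4).eq
  have h3 : ¬ 3 ∣ Nat.card (centralizer ({c} : Set T)) := by
    intro h3
    have h5 : 125 * 4 * 3 ∣ Nat.card (centralizer ({c} : Set T)) :=
      Nat.Coprime.mul_dvd_of_dvd_of_dvd (by norm_num) (Nat.Coprime.mul_dvd_of_dvd_of_dvd (by norm_num) h125 h4c) h3
    have h6 := Nat.le_of_dvd Nat.card_pos h5
    omega
  have two : ∀ i : T, orderOf i = 2 → ¬ 25 ∣ Nat.card (centralizer ({i} : Set T)) := by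
    intro i hi
    have h1 : i * i = 1 := by rw [← pow_two, ← hi, pow_orderOf_eq_one]
    have h2 : i ≠ 1 := by
      rintro rfl
      rw [orderOf_one] at hi
      norm_num at hi
    rcases Rp.inv_cases i h1 h2 with h5 | ⟨h5, -⟩ <;> rw [h5] <;> norm_num
  obtain ⟨y, hy, hy50⟩ := H904.El.HS.exists_small Rp
  obtain ⟨x, t, hx, ht, hxt⟩ := H904.El.HS.exists_large Rp
  have hlt := H904.El.card_cent_five (by rw [hc]; norm_num) hx ht hxt
  refine ⟨hc, fun x hx => H904.HSIso.card_seven h hx, fun x hx => H904.HSIso.card_eleven h hx,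
    cube_of h4 hP hna hcP hc5 hcc h3 two, ⟨c, hc5, h125, h3⟩, ⟨x, hx, H904.El.dvd_cent_of_comm ht hxt, hlt⟩,
    ⟨y, hy, hy50⟩, exists_ten_hs h, exists_ord h H153.Zeros.hs_twelve, ?_, exists_ord h H153.Zeros.hs_twenty⟩
  refine ⟨x * t, ?_⟩
  rw [(show Commute x t from hxt).orderOf_mul_eq_mul_orderOf_of_coprime (by rw [hx, ht]; norm_num), hx, ht]

variable {T : Type u} [Group T] [Finite T]

/-- the elements of order 5: two of three classes are missing -/
theorem Dat.not_sq (D : Dat T) {R : Subgroup T} (h25 : ¬ 25 ∣ Nat.card R) {w : T} (hw : NoIm R w)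
    (hw5 : orderOf w ≠ 5) : Three T R := by
  have := five
  obtain ⟨a, ha, ha1, ha3⟩ := D.fiveA
  obtain ⟨b, hb, hb3, hb50⟩ := D.fiveB
  obtain ⟨c, hc, hc50⟩ := D.fiveC
  have ha125 := Nat.le_of_dvd Nat.card_pos ha1
  refine two_miss_of_cyclic (s := 5) (cyc_of_sq (by norm_num; exact h25)) ha hb hc (fun h => ha3 (by rw [h]; exact hb3))
    (by omega) (by omega) hw hw5

end HS

end Cfsg.Agent.H602.Der
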