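import Cfsg.Agent.H602.Der.Tools
import Cfsg.Agent.H602.Der.PCube
import Cfsg.Agent.Lib.MinNormal
import Cfsg.Agent.Lib.SubnormalJoin
import Cfsg.Agent.S0494
import Cfsg.Agent.S0497

/-!
# `{2, 3, 5}`-subgroups containing a nonabelian Sylow 5-subgroup of order 125 (helper602)

`Cube T` : the subgroups of order 125 of `T` are nonabelian, their central elements do not commute with elements of
order 3, and 25 does not divide the orders of the centralizers of involutions.
`no_fifteen` : a `{2, 3, 5}`-subgroup of order divisible by 125 has no element of order 15.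
-/

set_option autoImplicit false
set_option maxRecDepth 100000

namespace Cfsg.Agent.H602.Der

open Subgroup
open Cfsg.Agent.OrdDiv Cfsg.Agent.H257.El Cfsg.Agent.H439.Der Cfsg.Agent.H604.Sax Cfsg.Agent.H938.Sax

universe u

/-- the situation -/
structure Cube (T : Type u) [Group T] : Prop where
  na : ∀ P : Subgroup T, Nat.card P = 125 → ¬ ∀ a ∈ P, ∀ b ∈ P, a * b = b * a
  cent : ∀ P : Subgroup T, Nat.card P = 125 → ∀ z ∈ P, z ≠ 1 → (∀ g ∈ P, g * z = z * g) →
    ∀ t : T, orderOf t = 3 → t * z ≠ z * t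
  two : ∀ i : T, orderOf i = 2 → ¬ 25 ∣ Nat.card (centralizer ({i} : Set T))

section fix

variable {T : Type*} [Group T] [Finite T]

/-- an element of prime order acting by conjugation on a set of order prime to `p` -/
theorem exists_fixed {p : ℕ} [Fact p.Prime] {g : T} (hg : orderOf g = p) (A : Set T)
    (hA : ∀ a ∈ A, g * a * g⁻¹ ∈ A) (hc : ¬ p ∣ Nat.card A) : ∃ a ∈ A, g * a = a * g := by
  by_contra hn
  push Not at hn
  apply hc
  have hA' : ∀ k ∈ zpowers g, ∀ a ∈ A, k * a * k⁻¹ ∈ A := by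
    intro k hk
    obtain ⟨n, hn⟩ := mem_powers_iff_mem_zpowers.2 hk
    simp only at hn
    rw [← hn]
    clear hn hk
    induction n with
    | zero => intro a ha; simpa using ha
    | succ n ih =>
      intro a ha
      have h1 : g ^ (n + 1) * a * (g ^ (n + 1))⁻¹ = g * (g ^ n * a * (g ^ n)⁻¹) * g⁻¹ := by
        rw [pow_succ']; group
      rw [h1]
      exact hA _ (ih a ha)
  refine dvd_ncard (zpowers g) A hA' fun a ha => ?_
  have h1 : zpowers g ⊓ centralizer ({a} : Set T) = ⊥ := by
    have h2 : Nat.card ↥(zpowers g ⊓ centralizer ({a} : Set T)) ∣ p := by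
      rw [← hg, ← Nat.card_zpowers]
      exact card_dvd_of_le inf_le_left
    rcases (Nat.dvd_prime Fact.out).1 h2 with h3 | h3
    · exact card_eq_one.1 h3
    · exfalso
      have h4 : zpowers g ⊓ centralizer ({a} : Set T) = zpowers g :=
        eq_of_le_of_card_ge inf_le_left (by rw [h3, Nat.card_zpowers, hg])
      have h5 : g ∈ zpowers g ⊓ centralizer ({a} : Set T) := by rw [h4]; exact mem_zpowers g
      exact hn a ha (mem_centralizer_singleton_iff.1 h5.2)
  rw [h1, card_bot, mul_one, Nat.card_zpowers, hg]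

end fix

section main

variable {T : Type u} [Group T] [Finite T]

theorem five : Fact (Nat.Prime 5) := ⟨by norm_num⟩

/-- the centralizer of `a` in `P` has order 1 or 5 -/
theorem dvd_five {P : Subgroup T} (hP : Nat.card P = 125) {a : T}
    (h : ¬ 25 ∣ Nat.card ↥(P ⊓ centralizer ({a} : Set T))) :
    25 * Nat.card ↥(P ⊓ centralizer ({a} : Set T)) ∣ Nat.card P := by
  have := five
  have h1 : Nat.card ↥(P ⊓ centralizer ({a} : Set T)) ∣ 5 ^ 3 := by
    have h2 : Nat.card P = 5 ^ 3 := by rw [hP]; norm_num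
    rw [← h2]
    exact card_dvd_of_le inf_le_left
  obtain ⟨k, hk, hkc⟩ := (Nat.dvd_prime_pow (by norm_num : Nat.Prime 5)).1 h1
  have h2 : k < 2 := by
    by_contra hk2
    exact h (by rw [hkc]; exact pow_dvd_pow 5 (by omega : 2 ≤ k))
  rw [hkc, hP]
  interval_cases k <;> norm_num

theorem Cube.cent_two (D : Cube T) {P : Subgroup T} (hP : Nat.card P = 125) {i : T} (hi : orderOf i = 2) :
    25 * Nat.card ↥(P ⊓ centralizer ({i} : Set T)) ∣ Nat.card P :=
  dvd_five hP fun h => D.two i hi (h.trans (card_dvd_of_le inf_le_right))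

theorem center_le {P E : Subgroup T} (hP : Nat.card P = 125) (hna : ¬ ∀ a ∈ P, ∀ b ∈ P, a * b = b * a)
    (hEP : E ≤ P) (hE : Nat.card E = 25) {z : T} (hz : z ∈ P) (hzc : ∀ g ∈ P, g * z = z * g) : z ∈ E := by
  have := five
  have hn : ¬ ∀ a b : P, a * b = b * a := fun h => hna fun a ha b hb => congrArg Subtype.val (h ⟨a, ha⟩ ⟨b, hb⟩)
  have hE' : Nat.card (E.subgroupOf P) = 5 ^ 2 := by
    rw [Nat.card_congr (Subgroup.subgroupOfEquivOfLe hEP).toEquiv, hE]; norm_num
  have h1 := PCube.center_le_of_sq (p := 5) (by rw [hP]; norm_num) hn hE'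
  have h2 : (⟨z, hz⟩ : P) ∈ center P := mem_center_iff.2 fun g => Subtype.ext (hzc g g.2)
  exact h1 h2

/-- a nontrivial central element -/
theorem exists_central {P : Subgroup T} (hP : Nat.card P = 125) :
    ∃ z ∈ P, z ≠ 1 ∧ ∀ g ∈ P, g * z = z * g := by
  have := five
  have h1 : IsPGroup 5 P := IsPGroup.of_card (n := 3) (by rw [hP]; norm_num)
  have h2 : Nontrivial P := by
    rw [← Finite.one_lt_card_iff_nontrivial, hP]
    norm_num
  have h3 : Nontrivial (center P) := h1.center_nontrivial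
  obtain ⟨z, hz⟩ := exists_ne (1 : center P)
  refine ⟨z.1, z.1.2, fun h => hz (Subtype.ext (Subtype.ext h)), fun g hg => ?_⟩
  exact congrArg Subtype.val (mem_center_iff.1 z.2 ⟨g, hg⟩)

theorem Cube.cent_three (D : Cube T) {P : Subgroup T} (hP : Nat.card P = 125) {t : T} (ht : orderOf t = 3) :
    25 * Nat.card ↥(P ⊓ centralizer ({t} : Set T)) ∣ Nat.card P := by
  have := five
  refine dvd_five hP fun h => ?_
  obtain ⟨z, hz, hz1, hzc⟩ := exists_central hP
  -- a subgroup of order 25
  obtain ⟨E, hE, hEc⟩ : ∃ E : Subgroup T, E ≤ P ⊓ centralizer ({t} : Set T) ∧ Nat.card E = 25 := by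
    obtain ⟨E, hE⟩ := Sylow.exists_subgroup_card_pow_prime (G := ↥(P ⊓ centralizer ({t} : Set T))) 5 (n := 2)
      (by norm_num; exact h)
    refine ⟨E.map (P ⊓ centralizer ({t} : Set T)).subtype, ?_, ?_⟩
    · rintro _ ⟨x, -, rfl⟩
      exact x.2
    · rw [Subgroup.card_map_of_injective (Subgroup.subtype_injective _), hE]; norm_num
  have h2 := center_le hP (D.na P hP) (hE.trans inf_le_left) hEc hz hzc
  exact D.cent P hP z hz hz1 hzc t ht (mem_centralizer_singleton_iff.1 (hE h2).2).symm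

/-- the cardinality of an invariant set of elements of order 2 or 3 -/
theorem Cube.dvd_card (D : Cube T) {P : Subgroup T} (hP : Nat.card P = 125) (A : Set T)
    (hA : ∀ g ∈ P, ∀ a ∈ A, g * a * g⁻¹ ∈ A) (h : ∀ a ∈ A, orderOf a = 2 ∨ orderOf a = 3) : 25 ∣ Nat.card A := by
  refine dvd_ncard P A hA fun a ha => ?_
  rcases h a ha with h1 | h1
  · exact D.cent_two hP h1
  · exact D.cent_three hP h1

/-! ### numbers of involutions -/

theorem a5_count : (Finset.univ.filter fun x : Equiv.Perm (Fin 5) => Equiv.Perm.sign x = 1 ∧ x * x = 1).card = 16 := by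
  decide +kernel

theorem a6_count : (Finset.univ.filter fun x : Equiv.Perm (Fin 6) => Equiv.Perm.sign x = 1 ∧ x * x = 1).card = 46 := by
  decide +kernel

theorem alt_count {n m : ℕ}
    (h : (Finset.univ.filter fun x : Equiv.Perm (Fin n) => Equiv.Perm.sign x = 1 ∧ x * x = 1).card = m) :
    Nat.card {x : alternatingGroup (Fin n) // x * x = 1} = m := by
  rw [← h, ← Fintype.card_subtype, ← Nat.card_eq_fintype_card]
  refine Nat.card_congr
    { toFun := fun x => ⟨x.1, Equiv.Perm.mem_alternatingGroup.1 x.1.2, congrArg Subtype.val x.2⟩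
      invFun := fun x => ⟨⟨x.1, Equiv.Perm.mem_alternatingGroup.2 x.2.1⟩, Subtype.ext x.2.2⟩
      left_inv := fun x => rfl
      right_inv := fun x => rfl }

theorem count_congr {G H : Type*} [Group G] [Group H] (e : G ≃* H) :
    Nat.card {x : G // x * x = 1} = Nat.card {x : H // x * x = 1} := by
  refine Nat.card_congr
    { toFun := fun x => ⟨e x.1, by rw [← map_mul, x.2, map_one]⟩
      invFun := fun x => ⟨e.symm x.1, by rw [← map_mul, x.2, map_one]⟩
      left_inv := fun x => Subtype.ext (e.symm_apply_apply _)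
      right_inv := fun x => Subtype.ext (e.apply_symm_apply _) }

theorem count_pi {S : Type*} [Group S] [Finite S] (j : ℕ) :
    Nat.card {x : Fin j → S // x * x = 1} = Nat.card {x : S // x * x = 1} ^ j := by
  have e : {x : Fin j → S // x * x = 1} ≃ (Fin j → {x : S // x * x = 1}) :=
    { toFun := fun x i => ⟨x.1 i, congrFun x.2 i⟩
      invFun := fun f => ⟨fun i => (f i).1, funext fun i => (f i).2⟩
      left_inv := fun x => rfl
      right_inv := fun x => rfl }
  rw [Nat.card_congr e, Nat.card_pi]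
  simp

/-- the nonabelian simple `{2, 3, 5}`-groups of order dividing `2 ^ 9 * 3 ^ 2 * 5 ^ 3` -/
theorem simple_count (tab : OrderTable.{u}) (known : Known.{u}) {S : Type u} [Group S] [Finite S] [IsSimpleGroup S]
    (hna : ¬ ∀ a b : S, a * b = b * a) (hd : Nat.card S ∣ 576000) :
    (Nat.card S = 60 ∧ Nat.card {x : S // x * x = 1} = 16) ∨ (Nat.card S = 360 ∧ Nat.card {x : S // x * x = 1} = 46) := by
  obtain ⟨g, hg, -, hc⟩ := exists_good tab (known S) hna (l := [(2,9),(3,2),(5,3)]) (N := 576000) (by decide +kernel) hd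
  have h1 : ∀ g ∈ cands [(2,9),(3,2),(5,3)] 576000, ordN g = 60 ∨ ordN g = 360 := by decide +kernel
  rcases h1 g hg with h2 | h2
  · left
    have h3 : Nat.card S = 60 := by rw [hc, h2]
    obtain ⟨e⟩ := Cfsg.Agent.S0494.result h3
    exact ⟨h3, (count_congr e).trans (alt_count a5_count)⟩
  · right
    have h3 : Nat.card S = 360 := by rw [hc, h2]
    obtain ⟨e⟩ := Cfsg.Agent.S0497.result h3
    exact ⟨h3, (count_congr e).trans (alt_count a6_count)⟩

/-! ### a normal 5-subgroup -/

omit [Finite T] in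
theorem card_diff_one (M : Subgroup T) [Finite M] : Nat.card ((M : Set T) \ {1} : Set T) = Nat.card M - 1 := by
  rw [Nat.card_coe_set_eq, Set.ncard_sdiff_singleton_of_mem (one_mem M)]
  rfl

theorem card_inf {M C : Subgroup T} (hC : C ≤ M) :
    Nat.card ((M : Set T) \ C : Set T) = Nat.card M - Nat.card C := by
  rw [Nat.card_coe_set_eq, Set.ncard_sdiff hC (Set.toFinite _)]
  rfl

theorem five_case (D : Cube T) {R M P : Subgroup T} (hP : Nat.card P = 125) (hPR : P ≤ R) (hMP : M ≤ P)
    (hinv : ∀ g ∈ R, ∀ a ∈ M, g * a * g⁻¹ ∈ M) (hMc : ∀ a ∈ M, ∀ b ∈ M, a * b = b * a)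
    {m : ℕ} (hm : Nat.card M = 5 ^ m) (hm0 : 0 < m) {t e : T} (htR : t ∈ R) (ht : orderOf t = 3)
    (he : orderOf e = 5) (hte : t * e = e * t) {g : T} (hgR : g ∈ R) (hge : g * e * g⁻¹ ∈ P) (heR : e ∈ R) :
    False := by
  have := five
  have h3 : Fact (Nat.Prime 3) := ⟨by norm_num⟩
  obtain ⟨z, hz, hz1, hzc⟩ := exists_central hP
  have hna := D.na P hP
  have hm3 : m ≤ 3 := by
    have h1 := card_dvd_of_le hMP
    rw [hm, hP, show (125 : ℕ) = 5 ^ 3 by norm_num] at h1
    exact (Nat.pow_dvd_pow_iff_le_right (by norm_num)).1 h1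
  interval_cases m
  · -- order 5
    have hA : ∀ a ∈ ((M : Set T) \ {1}), t * a * t⁻¹ ∈ ((M : Set T) \ {1}) := by
      rintro a ⟨ha, ha1⟩
      refine ⟨hinv t htR a ha, fun h => ha1 ?_⟩
      rw [Set.mem_singleton_iff] at h ⊢
      have h2 : a = t⁻¹ * (t * a * t⁻¹) * t := by group
      rw [h2, h]; group
    obtain ⟨a, ⟨haM, ha1⟩, hta⟩ := exists_fixed ht _ hA (by rw [card_diff_one, hm]; norm_num)
    rw [Set.mem_singleton_iff] at ha1
    by_cases hac : ∀ g ∈ P, g * a = a * g
    · exact D.cent P hP a (hMP haM) ha1 hac t ht hta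
    have hn : ¬ ∀ a b : P, a * b = b * a := fun h => hna fun a ha b hb => congrArg Subtype.val (h ⟨a, ha⟩ ⟨b, hb⟩)
    obtain ⟨k, hk⟩ := PCube.exists_conj_mul (p := 5) (by rw [hP]; norm_num) hn (e := ⟨a, hMP haM⟩) (z := ⟨z, hz⟩)
      (fun h => hac fun g hg => congrArg Subtype.val (mem_center_iff.1 h ⟨g, hg⟩))
      (mem_center_iff.2 fun g => Subtype.ext (hzc g g.2))
    have hk' : (k : T) * a * (k : T)⁻¹ = z * a := congrArg Subtype.val hk
    have hzM : z ∈ M := by
      have h1 := hinv k (hPR k.2) a haM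
      rw [hk'] at h1
      have h2 := M.mul_mem h1 (M.inv_mem haM)
      rwa [mul_inv_cancel_right] at h2
    have hMa : zpowers a = M := by
      apply eq_of_le_of_card_ge (zpowers_le.2 haM)
      have h1 : Nat.card (zpowers a) ∣ 5 := by
        have h2 := card_dvd_of_le (zpowers_le.2 haM)
        rwa [hm, pow_one] at h2
      rcases (Nat.dvd_prime (by norm_num : Nat.Prime 5)).1 h1 with h2 | h2
      · exfalso
        rw [Nat.card_zpowers, orderOf_eq_one_iff] at h2
        exact ha1 h2
      · rw [h2, hm, pow_one]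
    rw [← hMa] at hzM
    obtain ⟨j, rfl⟩ := mem_zpowers_iff.1 hzM
    exact D.cent P hP _ hz hz1 hzc t ht ((show Commute t a from hta).zpow_right j)
  · -- order 25
    have hM25 : Nat.card M = 25 := by rw [hm]; norm_num
    have hzM : z ∈ M := center_le hP hna hMP hM25 hz hzc
    have hCd : Nat.card ↥(M ⊓ centralizer ({t} : Set T)) ∣ 5 ^ 2 := by
      rw [← hm]; exact card_dvd_of_le inf_le_left
    obtain ⟨k, hk, hkc⟩ := (Nat.dvd_prime_pow (by norm_num : Nat.Prime 5)).1 hCd
    have hC1 : M ⊓ centralizer ({t} : Set T) = ⊥ := by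
      interval_cases k
      · exact card_eq_one.1 (by rw [hkc, pow_zero])
      · exfalso
        obtain ⟨a, ⟨haM, haC⟩, hta⟩ := exists_fixed ht ((M : Set T) \ (M ⊓ centralizer ({t} : Set T) : Subgroup T))
          (by
            rintro a ⟨ha, ha1⟩
            refine ⟨hinv t htR a ha, fun h => ha1 ⟨ha, ?_⟩⟩
            have h2 := mem_centralizer_singleton_iff.1 h.2
            refine mem_centralizer_singleton_iff.2 ?_
            calc a * t = t⁻¹ * ((t * a * t⁻¹) * t) * t := by group
              _ = t⁻¹ * (t * (t * a * t⁻¹)) * t := by rw [h2]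
              _ = _ := by group) (by
            rw [card_inf inf_le_left, hM25, hkc]; norm_num)
        exact haC ⟨haM, mem_centralizer_singleton_iff.2 hta.symm⟩
      · exfalso
        have h1 : M ⊓ centralizer ({t} : Set T) = M := eq_of_le_of_card_ge inf_le_left (by rw [hkc, hM25]; norm_num)
        have h2 : z ∈ M ⊓ centralizer ({t} : Set T) := by rw [h1]; exact hzM
        exact D.cent P hP z hz hz1 hzc t ht (mem_centralizer_singleton_iff.1 h2.2).symm
    have heM : e ∉ M := by
      intro h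
      have h1 : e ∈ M ⊓ centralizer ({t} : Set T) := ⟨h, mem_centralizer_singleton_iff.2 hte.symm⟩
      rw [hC1, mem_bot] at h1
      rw [h1, orderOf_one] at he
      norm_num at he
    have hFd : Nat.card ↥(M ⊓ centralizer ({e} : Set T)) ∣ 5 ^ 2 := by
      rw [← hm]; exact card_dvd_of_le inf_le_left
    obtain ⟨j, hj, hjc⟩ := (Nat.dvd_prime_pow (by norm_num : Nat.Prime 5)).1 hFd
    have hF : M ⊓ centralizer ({e} : Set T) = M := by
      interval_cases j
      · exfalso
        obtain ⟨a, ⟨haM, ha1⟩, hta⟩ := exists_fixed he ((M : Set T) \ {1}) (by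
            rintro a ⟨ha, ha1⟩
            refine ⟨hinv e heR a ha, fun h => ha1 ?_⟩
            rw [Set.mem_singleton_iff] at h ⊢
            have h2 : a = e⁻¹ * (e * a * e⁻¹) * e := by group
            rw [h2, h]; group) (by
            rw [card_diff_one, hM25]; norm_num)
        have h1 : a ∈ M ⊓ centralizer ({e} : Set T) := ⟨haM, mem_centralizer_singleton_iff.2 hta.symm⟩
        have h5 : M ⊓ centralizer ({e} : Set T) = ⊥ := card_eq_one.1 (by rw [hjc, pow_zero])
        rw [h5, mem_bot] at h1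
        exact ha1 h1
      · exfalso
        obtain ⟨a, ⟨haF, ha1⟩, hta⟩ := exists_fixed ht (((M ⊓ centralizer ({e} : Set T) : Subgroup T) : Set T) \ {1})
          (by
            rintro a ⟨ha, ha1⟩
            refine ⟨⟨hinv t htR a ha.1, ?_⟩, fun h => ha1 ?_⟩
            · have h2 := mem_centralizer_singleton_iff.1 ha.2
              have h4 : t⁻¹ * e = e * t⁻¹ := (show Commute t e from hte).inv_left
              refine mem_centralizer_singleton_iff.2 ?_
              calc t * a * t⁻¹ * e = t * a * (t⁻¹ * e) := by group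
                _ = t * (a * e) * t⁻¹ := by rw [h4]; group
                _ = (t * e) * a * t⁻¹ := by rw [h2]; group
                _ = _ := by rw [hte]; group
            · rw [Set.mem_singleton_iff] at h ⊢
              have h2 : a = t⁻¹ * (t * a * t⁻¹) * t := by group
              rw [h2, h]; group) (by
            rw [card_diff_one, hjc]; norm_num)
        have h1 : a ∈ M ⊓ centralizer ({t} : Set T) := ⟨haF.1, mem_centralizer_singleton_iff.2 hta.symm⟩
        rw [hC1, mem_bot] at h1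
        exact ha1 h1
      · exact eq_of_le_of_card_ge inf_le_left (by rw [hjc, hM25]; norm_num)
    -- the conjugate of `e` in `P`
    set e' := g * e * g⁻¹ with he'
    have he'M : e' ∉ M := by
      intro h
      apply heM
      have h1 := hinv g⁻¹ (R.inv_mem hgR) e' h
      have h2 : g⁻¹ * e' * g⁻¹⁻¹ = e := by rw [he']; group
      rwa [h2] at h1
    have hMe' : M ≤ P ⊓ centralizer ({e'} : Set T) := by
      intro x hx
      refine ⟨hMP hx, ?_⟩
      have h1 := hinv g⁻¹ (R.inv_mem hgR) x hx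
      rw [← hF] at h1
      have h2 := mem_centralizer_singleton_iff.1 h1.2
      refine mem_centralizer_singleton_iff.2 ?_
      rw [he']
      calc x * (g * e * g⁻¹) = g * ((g⁻¹ * x * g⁻¹⁻¹) * e) * g⁻¹ := by group
        _ = g * (e * (g⁻¹ * x * g⁻¹⁻¹)) * g⁻¹ := by rw [h2]
        _ = _ := by group
    have he'c : ∀ x ∈ P, x * e' = e' * x := by
      have h1 : P ⊓ centralizer ({e'} : Set T) = P := by
        apply eq_of_le_of_card_ge inf_le_left
        have h2 : Nat.card ↥(P ⊓ centralizer ({e'} : Set T)) ∣ 5 ^ 3 := by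
          rw [show (5 : ℕ) ^ 3 = 125 by norm_num, ← hP]
          exact card_dvd_of_le inf_le_left
        obtain ⟨i, hi, hic⟩ := (Nat.dvd_prime_pow (by norm_num : Nat.Prime 5)).1 h2
        have h3 : M < P ⊓ centralizer ({e'} : Set T) :=
          lt_of_le_of_ne hMe' fun h => he'M (by rw [h]; exact ⟨hge, mem_centralizer_singleton_iff.2 rfl⟩)
        have h4 : Nat.card M < Nat.card ↥(P ⊓ centralizer ({e'} : Set T)) := by
          refine lt_of_le_of_ne (card_le_of_le h3.le) fun h => h3.ne ?_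
          exact eq_of_le_of_card_ge h3.le h.ge
        rw [hm, hic] at h4
        have h5 : 2 < i := (Nat.pow_lt_pow_iff_right (by norm_num)).1 h4
        have h6 : i = 3 := by omega
        rw [hic, h6, hP]; norm_num
      intro x hx
      rw [← h1] at hx
      exact mem_centralizer_singleton_iff.1 hx.2
    exact he'M (center_le hP hna hMP hM25 hge he'c)
  · -- order 125
    have h1 : M = P := eq_of_le_of_card_ge hMP (by rw [hm, hP]; norm_num)
    rw [← h1] at hna
    exact hna hMc

/-! ### the main theorem -/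

theorem not_dvd_two {m : ℕ} (h : 2 ^ m ∣ 576000) (h0 : 0 < m) : ¬ 25 ∣ 2 ^ m - 1 := by
  have h1 : m ≤ 9 := by
    by_contra hc
    have h2 : 2 ^ 10 ∣ 576000 := (pow_dvd_pow 2 (by omega)).trans h
    norm_num at h2
  interval_cases m <;> norm_num

theorem not_dvd_three {m : ℕ} (h : 3 ^ m ∣ 576000) (h0 : 0 < m) : ¬ 25 ∣ 3 ^ m - 1 := by
  have h1 : m ≤ 2 := by
    by_contra hc
    have h2 : 3 ^ 3 ∣ 576000 := (pow_dvd_pow 3 (by omega)).trans h
    norm_num at h2
  interval_cases m <;> norm_num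

theorem not_dvd_a5 {m : ℕ} (h : 60 ^ m ∣ 576000) (h0 : 0 < m) : ¬ 25 ∣ 16 ^ m - 1 := by
  have h1 : m ≤ 2 := by
    by_contra hc
    have h2 : 60 ^ 3 ∣ 576000 := (pow_dvd_pow 60 (by omega)).trans h
    norm_num at h2
  interval_cases m <;> norm_num

theorem not_dvd_a6 {m : ℕ} (h : 360 ^ m ∣ 576000) (h0 : 0 < m) : ¬ 25 ∣ 46 ^ m - 1 := by
  have h1 : m ≤ 1 := by
    by_contra hc
    have h2 : 360 ^ 2 ∣ 576000 := (pow_dvd_pow 360 (by omega)).trans h
    norm_num at h2
  interval_cases m
  norm_num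

/-- **no element of order 15** -/
theorem Cube.no_fifteen (D : Cube T) (tab : OrderTable.{u}) (known : Known.{u}) {R : Subgroup T}
    (h125 : 125 ∣ Nat.card R) (hR : Nat.card R ∣ 576000) : ∀ w ∈ R, orderOf w ≠ 15 := by
  intro w hwR hw
  have h5' := five
  have h3' : Fact (Nat.Prime 3) := ⟨by norm_num⟩
  have ht : orderOf (w ^ 5) = 3 := by
    rw [orderOf_pow_of_dvd (by norm_num) (by rw [hw]; norm_num), hw]
  have he : orderOf (w ^ 3) = 5 := by
    rw [orderOf_pow_of_dvd (by norm_num) (by rw [hw]; norm_num), hw]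
  have hte : w ^ 5 * w ^ 3 = w ^ 3 * w ^ 5 := ((Commute.refl w).pow_pow 5 3).eq
  -- the Sylow 5-subgroup
  have hfac : (Nat.card R).factorization 5 = 3 := by
    apply le_antisymm
    · by_contra hc
      have h1 : 5 ^ 4 ∣ Nat.card R :=
        ((by norm_num : Nat.Prime 5).pow_dvd_iff_le_factorization Nat.card_pos.ne').2 (by omega)
      have h2 := h1.trans hR
      norm_num at h2
    · exact ((by norm_num : Nat.Prime 5).pow_dvd_iff_le_factorization Nat.card_pos.ne').1 (by norm_num; exact h125)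
  obtain ⟨P₀⟩ : Nonempty (Sylow 5 R) := inferInstance
  have hP₀ : Nat.card P₀ = 125 := by
    rw [P₀.card_eq_multiplicity, hfac]; norm_num
  set P : Subgroup T := (P₀ : Subgroup R).map R.subtype with hPdef
  have hP : Nat.card P = 125 := by
    rw [hPdef, Subgroup.card_map_of_injective R.subtype_injective]
    exact hP₀
  have hPR : P ≤ R := by
    rw [hPdef]
    rintro _ ⟨x, -, rfl⟩
    exact x.2
  have hnt : Nontrivial R := by
    rw [← Finite.one_lt_card_iff_nontrivial]
    exact lt_of_lt_of_le (by norm_num) (Nat.le_of_dvd Nat.card_pos h125)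
  obtain ⟨L, hL, hL1, hmin⟩ := Cfsg.Agent.Lib.SubnormalJoin.exists_minimal_normal R
  obtain ⟨S, m, hSL, hS, hm0, ⟨φ⟩⟩ := Cfsg.Agent.Lib.MinNormal.exists_mulEquiv_pi L hL1 hmin
  have hcL : Nat.card L = Nat.card S ^ m := by
    rw [Nat.card_congr φ.toEquiv, Nat.card_pi]
    simp
  have hLR : Nat.card L ∣ Nat.card R := card_subgroup_dvd_card L
  set M : Subgroup T := L.map R.subtype with hMdef
  have hcM : Nat.card M = Nat.card S ^ m := by
    rw [hMdef, Subgroup.card_map_of_injective R.subtype_injective, hcL]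
  have hdM : Nat.card S ^ m ∣ 576000 := by
    rw [← hcL]
    exact hLR.trans hR
  have hinv : ∀ g ∈ R, ∀ a ∈ M, g * a * g⁻¹ ∈ M := by
    rintro g hg _ ⟨a, ha, rfl⟩
    exact ⟨⟨g, hg⟩ * a * ⟨g, hg⟩⁻¹, hL.conj_mem a ha ⟨g, hg⟩, rfl⟩
  by_cases hc : ∀ a b : S, a * b = b * a
  · -- elementary abelian
    have hq : (Nat.card S).Prime := by
      let _ : CommGroup S := { (inferInstance : Group S) with mul_comm := hc }
      exact IsSimpleGroup.prime_card
    have hexp : ∀ a ∈ M, a ^ Nat.card S = 1 := by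
      rintro _ ⟨a, ha, rfl⟩
      have h1 : (⟨a, ha⟩ : L) ^ Nat.card S = 1 := by
        apply φ.injective
        rw [map_pow, map_one]
        funext i
        rw [Pi.pow_apply, Pi.one_apply]
        exact pow_card_eq_one'
      have h2 : a ^ Nat.card S = 1 := congrArg Subtype.val h1
      have h3 := congrArg (R.subtype) h2
      rwa [map_pow, map_one] at h3
    have hA : ∀ g ∈ P, ∀ a ∈ ((M : Set T) \ {1}), g * a * g⁻¹ ∈ ((M : Set T) \ {1}) := by
      rintro g hg a ⟨ha, ha1⟩
      refine ⟨hinv g (hPR hg) a ha, fun h => ha1 ?_⟩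
      rw [Set.mem_singleton_iff] at h ⊢
      have h2 : a = g⁻¹ * (g * a * g⁻¹) * g := by group
      rw [h2, h]; group
    have hcases : Nat.card S = 2 ∨ Nat.card S = 3 ∨ Nat.card S = 5 := by
      have h1 : Nat.card S ∣ 2 ^ 9 * 3 ^ 2 * 5 ^ 3 := by
        have h2 := (dvd_pow_self (Nat.card S) hm0.ne').trans hdM
        norm_num
        exact h2
      rcases (hq.dvd_mul).1 h1 with h2 | h2
      · rcases (hq.dvd_mul).1 h2 with h3 | h3
        · exact Or.inl ((Nat.prime_dvd_prime_iff_eq hq Nat.prime_two).1 (hq.dvd_of_dvd_pow h3))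
        · exact Or.inr (Or.inl ((Nat.prime_dvd_prime_iff_eq hq Nat.prime_three).1 (hq.dvd_of_dvd_pow h3)))
      · exact Or.inr (Or.inr ((Nat.prime_dvd_prime_iff_eq hq (by norm_num)).1 (hq.dvd_of_dvd_pow h2)))
    rcases hcases with h2 | h2 | h2
    · rw [h2] at hcM hdM hexp
      refine not_dvd_two hdM hm0 ?_
      rw [← hcM, ← card_diff_one]
      refine D.dvd_card hP _ hA fun a ha => Or.inl (orderOf_eq_prime (hexp a ha.1) ?_)
      exact ha.2
    · rw [h2] at hcM hdM hexp
      refine not_dvd_three hdM hm0 ?_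
      rw [← hcM, ← card_diff_one]
      refine D.dvd_card hP _ hA fun a ha => Or.inr (orderOf_eq_prime (hexp a ha.1) ?_)
      exact ha.2
    · rw [h2] at hcM
      have key : ∀ Q : Subgroup R, IsPGroup 5 Q → ∃ g : R, ∀ x ∈ Q, g * x * g⁻¹ ∈ (P₀ : Subgroup R) := by
        intro Q hQ
        obtain ⟨P₁, hP₁⟩ := hQ.exists_le_sylow
        obtain ⟨g, hg⟩ := MulAction.exists_smul_eq R P₁ P₀
        refine ⟨g, fun x hx => ?_⟩
        rw [← hg, Sylow.coe_subgroup_smul]
        exact ⟨x, hP₁ hx, rfl⟩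
      obtain ⟨g, hg⟩ := key L (IsPGroup.of_card (n := m) (by rw [hcL, h2]))
      have hMP : M ≤ P := by
        rintro _ ⟨x, hx, rfl⟩
        have h3 := hL.conj_mem x hx g⁻¹
        have h4 := hg _ h3
        have h5 : g * (g⁻¹ * x * g⁻¹⁻¹) * g⁻¹ = x := by group
        rw [h5] at h4
        exact ⟨x, h4, rfl⟩
      have hMc : ∀ a ∈ M, ∀ b ∈ M, a * b = b * a := by
        rintro _ ⟨a, ha, rfl⟩ _ ⟨b, hb, rfl⟩
        have h3 : (⟨a, ha⟩ : L) * ⟨b, hb⟩ = ⟨b, hb⟩ * ⟨a, ha⟩ := by
          apply φ.injective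
          rw [map_mul, map_mul]
          funext i
          exact hc _ _
        have h4 := congrArg (fun x : L => ((x : R) : T)) h3
        exact h4
      have heR : w ^ 3 ∈ R := pow_mem hwR 3
      obtain ⟨k, hk⟩ := key (zpowers (⟨w ^ 3, heR⟩ : R)) (IsPGroup.of_card (n := 1) (by
        rw [Nat.card_zpowers, Subgroup.orderOf_mk, he, pow_one]))
      have hk' := hk _ (mem_zpowers _)
      exact five_case D hP hPR hMP hinv hMc hcM hm0 (pow_mem hwR 5) ht he hte (g := (k : T)) k.2
        ⟨k * ⟨w ^ 3, heR⟩ * k⁻¹, hk', rfl⟩ heR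
  · -- nonabelian
    have hA : ∀ g ∈ P, ∀ a ∈ {a : T | a ∈ M ∧ a * a = 1 ∧ a ≠ 1}, g * a * g⁻¹ ∈ {a : T | a ∈ M ∧ a * a = 1 ∧ a ≠ 1} := by
      rintro g hg a ⟨ha, ha2, ha1⟩
      refine ⟨hinv g (hPR hg) a ha, ?_, fun h => ha1 ?_⟩
      · calc g * a * g⁻¹ * (g * a * g⁻¹) = g * (a * a) * g⁻¹ := by group
          _ = 1 := by rw [ha2]; group
      · have h2 : a = g⁻¹ * (g * a * g⁻¹) * g := by group
        rw [h2, h]; group
    have hcard : Nat.card {a : T | a ∈ M ∧ a * a = 1 ∧ a ≠ 1} = Nat.card {x : S // x * x = 1} ^ m - 1 := by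
      rw [← count_pi, ← count_congr φ]
      have e1 : {x : L // x * x = 1} ≃ {a : T | a ∈ M ∧ a * a = 1} :=
        { toFun := fun x => ⟨((x.1 : R) : T), ⟨x.1, x.1.2, rfl⟩, congrArg (fun y : L => ((y : R) : T)) x.2⟩
          invFun := fun a => ⟨⟨⟨a.1, by obtain ⟨y, -, hy⟩ := a.2.1; rw [← hy]; exact y.2⟩, by
            obtain ⟨y, hy, hya⟩ := a.2.1
            have h1 : (⟨a.1, by rw [← hya]; exact y.2⟩ : R) = y := Subtype.ext hya.symm
            rw [h1]; exact hy⟩, Subtype.ext (Subtype.ext a.2.2)⟩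
          left_inv := fun x => rfl
          right_inv := fun a => rfl }
      rw [Nat.card_congr e1]
      have h1 : {a : T | a ∈ M ∧ a * a = 1 ∧ a ≠ 1} = {a : T | a ∈ M ∧ a * a = 1} \ {1} := by
        ext a
        simp only [Set.mem_setOf_eq, Set.mem_sdiff, Set.mem_singleton_iff]
        tauto
      rw [h1, Nat.card_coe_set_eq, Set.ncard_sdiff_singleton_of_mem
        (show (1 : T) ∈ {a : T | a ∈ M ∧ a * a = 1} from ⟨one_mem M, by simp⟩), ← Nat.card_coe_set_eq]
    have h25 := D.dvd_card hP _ hA fun a ha => Or.inl (orderOf_eq_prime (by rw [pow_two]; exact ha.2.1) ha.2.2)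
    rw [hcard] at h25
    rcases simple_count tab known hc ((dvd_pow_self _ hm0.ne').trans hdM) with ⟨h1, h2⟩ | ⟨h1, h2⟩
    · rw [h2] at h25
      rw [h1] at hdM
      exact not_dvd_a5 hdM hm0 h25
    · rw [h2] at h25
      rw [h1] at hdM
      exact not_dvd_a6 hdM hm0 h25

end main

end Cfsg.Agent.H602.Der
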