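import Cfsg.Agent.H439.Der.Three
import Cfsg.Agent.H604.Sax.PrimeTop
import Cfsg.Agent.H257.El.EngA

/-!
# S3502, sporadic rows: tools (helper602)

* `inv x = (o(x), |C(x)|)`, `Three.of_inv` : three missing elements with different invariants
* `miss_of_cyclic` : the Sylow `s`-subgroups of `R` are cyclic: one of two `Aut`-classes of subgroups of order `s` is
  missing
* `dvd_of_stab` : a prime power dividing the lengths of all orbits
* `exists_main` : the top of a subgroup (two primes)
-/

set_option autoImplicit false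

namespace Cfsg.Agent.H602.Der

open Subgroup
open Cfsg.Agent.OrdDiv Cfsg.Agent.H257.El Cfsg.Agent.H439.Der Cfsg.Agent.H604.Sax Cfsg.Agent.H938.Sax

universe u

section basic

variable {T : Type*} [Group T]

/-- `x` has no `Aut T`-image in `R` -/
def NoIm (R : Subgroup T) (x : T) : Prop := ∀ φ : T ≃* T, φ x ∉ R

/-- the invariant -/
noncomputable def inv (x : T) : ℕ × ℕ := (orderOf x, Nat.card (centralizer ({x} : Set T)))

theorem card_cent_aut (φ : T ≃* T) (y : T) :
    Nat.card (centralizer ({φ y} : Set T)) = Nat.card (centralizer ({y} : Set T)) := by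
  have h1 : centralizer ({φ y} : Set T) = (centralizer ({y} : Set T)).map φ.toMonoidHom := by
    ext v
    rw [mem_centralizer_singleton_iff]
    constructor
    · intro hv
      refine ⟨φ.symm v, ?_, by simp⟩
      rw [SetLike.mem_coe, mem_centralizer_singleton_iff]
      apply φ.injective
      rw [map_mul, map_mul, φ.apply_symm_apply]
      exact hv
    · rintro ⟨u, hu, rfl⟩
      rw [SetLike.mem_coe, mem_centralizer_singleton_iff] at hu
      change φ u * φ y = φ y * φ u
      rw [← map_mul, hu, map_mul]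
  rw [h1, Subgroup.card_map_of_injective φ.injective]

theorem card_cent_conj (g y : T) :
    Nat.card (centralizer ({g * y * g⁻¹} : Set T)) = Nat.card (centralizer ({y} : Set T)) :=
  card_cent_aut (MulAut.conj g) y

theorem inv_aut (φ : T ≃* T) (x : T) : inv (φ x) = inv x := by
  unfold inv
  rw [card_cent_aut, orderOf_mulEquiv]

/-- **three missing elements with different invariants** -/
theorem three_of_inv {R : Subgroup T} {x y z : T} (hx : NoIm R x) (hy : NoIm R y) (hz : NoIm R z)
    (hxy : inv x ≠ inv y) (hxz : inv x ≠ inv z) (hyz : inv y ≠ inv z) : Three T R :=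
  ⟨x, y, z, hx, hy, hz, fun φ h => hxy (by rw [← h, inv_aut]), fun φ h => hxz (by rw [← h, inv_aut]),
    fun φ h => hyz (by rw [← h, inv_aut])⟩

theorem two_of_inv {R : Subgroup T} {x y : T} (hx : NoIm R x) (hy : NoIm R y) (hxy : inv x ≠ inv y) : Two T R :=
  ⟨x, y, hx, hy, fun φ h => hxy (by rw [← h, inv_aut])⟩

theorem inv_ne_of_order {x y : T} (h : orderOf x ≠ orderOf y) : inv x ≠ inv y := fun h1 => h (congrArg Prod.fst h1)

theorem inv_ne_of_card {x y : T} (h : Nat.card (centralizer ({x} : Set T)) ≠ Nat.card (centralizer ({y} : Set T))) :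
    inv x ≠ inv y := fun h1 => h (congrArg Prod.snd h1)

theorem noIm_of_order {R : Subgroup T} {x : T} {a : ℕ} (hx : orderOf x = a) (h : ∀ m ∈ R, orderOf m ≠ a) : NoIm R x :=
  fun φ hφ => h _ hφ (by rw [orderOf_mulEquiv, hx])

theorem noIm_of_dvd {R : Subgroup T} {x : T} {v : ℕ} (hv : ¬ v ∣ Nat.card R) (hx : v ∣ orderOf x) : NoIm R x :=
  not_mem_of_dvd hv hx

theorem noIm_of_prime {R : Subgroup T} {x : T} {v : ℕ} (hv : ¬ v ∣ Nat.card R) (hx : orderOf x = v) : NoIm R x :=
  not_mem_of_dvd hv (by rw [hx])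

theorem NoIm.mono {R K : Subgroup T} {x : T} (h : NoIm K x) (hRK : R ≤ K) : NoIm R x := fun φ hφ => h φ (hRK hφ)

/-- the Sylow `s`-subgroups of `R` are cyclic -/
theorem miss_of_cyclic [Finite T] {R : Subgroup T} {s : ℕ} [Fact s.Prime] (hcyc : ∀ P : Sylow s R, IsCyclic P)
    {x y : T} (hx : orderOf x = s) (hy : orderOf y = s)
    (hxy : Nat.card (centralizer ({x} : Set T)) ≠ Nat.card (centralizer ({y} : Set T))) : NoIm R x ∨ NoIm R y := by
  by_contra hc
  unfold NoIm at hc
  push Not at hc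
  obtain ⟨⟨a, ha⟩, ⟨b, hb⟩⟩ := hc
  have hx' : orderOf (⟨a x, ha⟩ : R) = s := by
    rw [Subgroup.orderOf_mk, orderOf_mulEquiv, hx]
  have hy' : orderOf (⟨b y, hb⟩ : R) = s := by
    rw [Subgroup.orderOf_mk, orderOf_mulEquiv, hy]
  obtain ⟨g, hg⟩ := conj_of_cyclic hcyc hx' hy'
  obtain ⟨j, hj⟩ := mem_zpowers_iff.1 hg
  have h1 : (a x) ^ j = (g : T) * (b y) * (g : T)⁻¹ := congrArg Subtype.val hj
  refine two_of_centA hx hy hxy ((b.trans (MulAut.conj (g : T))).trans a.symm) (mem_zpowers_iff.2 ⟨j, ?_⟩)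
  apply a.injective
  rw [map_zpow, h1]
  simp

/-- two of three classes are missing -/
theorem two_miss_of_cyclic [Finite T] {R : Subgroup T} {s : ℕ} [Fact s.Prime] (hcyc : ∀ P : Sylow s R, IsCyclic P)
    {x y z w : T} (hx : orderOf x = s) (hy : orderOf y = s) (hz : orderOf z = s)
    (hxy : Nat.card (centralizer ({x} : Set T)) ≠ Nat.card (centralizer ({y} : Set T)))
    (hxz : Nat.card (centralizer ({x} : Set T)) ≠ Nat.card (centralizer ({z} : Set T)))
    (hyz : Nat.card (centralizer ({y} : Set T)) ≠ Nat.card (centralizer ({z} : Set T)))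
    (hw : NoIm R w) (hws : orderOf w ≠ s) : Three T R := by
  rcases miss_of_cyclic hcyc hx hy hxy with h1 | h1
  · rcases miss_of_cyclic hcyc hy hz hyz with h2 | h2
    · exact three_of_inv h1 h2 hw (inv_ne_of_card hxy) (inv_ne_of_order (by rw [hx]; exact hws.symm))
        (inv_ne_of_order (by rw [hy]; exact hws.symm))
    · exact three_of_inv h1 h2 hw (inv_ne_of_card hxz) (inv_ne_of_order (by rw [hx]; exact hws.symm))
        (inv_ne_of_order (by rw [hz]; exact hws.symm))
  · rcases miss_of_cyclic hcyc hx hz hxz with h2 | h2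
    · exact three_of_inv h1 h2 hw (inv_ne_of_card hxy.symm) (inv_ne_of_order (by rw [hy]; exact hws.symm))
        (inv_ne_of_order (by rw [hx]; exact hws.symm))
    · exact three_of_inv h1 h2 hw (inv_ne_of_card hyz) (inv_ne_of_order (by rw [hy]; exact hws.symm))
        (inv_ne_of_order (by rw [hz]; exact hws.symm))

theorem cyc_of_sq {R : Subgroup T} [Finite T] {s : ℕ} [Fact s.Prime] (h : ¬ s ^ 2 ∣ Nat.card R) (P : Sylow s R) :
    IsCyclic P := cyclic_of_sq h P

end basic

/-! ### orbits -/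

section orbits

/-- a number dividing the lengths of all orbits -/
theorem dvd_of_stab {G α : Type*} [Group G] [Finite G] [MulAction G α] [Finite α] {d : ℕ}
    (h : ∀ a : α, d ∣ (MulAction.stabilizer G a).index) : d ∣ Nat.card α := by
  classical
  have := Fintype.ofFinite α
  rw [Nat.card_congr (MulAction.selfEquivSigmaOrbits G α), Nat.card_sigma]
  refine Finset.dvd_sum fun ω _ => ?_
  have h1 := h ω.out
  rwa [MulAction.index_stabilizer] at h1

/-- a `p`-subgroup acting by conjugation on a subset -/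
theorem dvd_ncard {T : Type*} [Group T] [Finite T] (P : Subgroup T) (A : Set T)
    (hA : ∀ g ∈ P, ∀ a ∈ A, g * a * g⁻¹ ∈ A) {d : ℕ}
    (h : ∀ a ∈ A, d * Nat.card ↥(P ⊓ centralizer ({a} : Set T)) ∣ Nat.card P) : d ∣ Nat.card A := by
  let _ : MulAction P A :=
    { smul := fun g a => ⟨(g : T) * a * (g : T)⁻¹, hA g g.2 a a.2⟩
      one_smul := fun a => Subtype.ext (by change (1 : T) * (a : T) * (1 : T)⁻¹ = a; simp)
      mul_smul := fun g k a => Subtype.ext (by
        change ((g : T) * k) * (a : T) * ((g : T) * k)⁻¹ = (g : T) * ((k : T) * a * (k : T)⁻¹) * (g : T)⁻¹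
        group) }
  refine dvd_of_stab (G := P) fun a => ?_
  have h1 : (MulAction.stabilizer P a) = (centralizer ({(a : T)} : Set T)).subgroupOf P := by
    ext g
    rw [MulAction.mem_stabilizer_iff, mem_subgroupOf, mem_centralizer_singleton_iff]
    constructor
    · intro hg
      have h2 : (g : T) * a * (g : T)⁻¹ = a := congrArg Subtype.val hg
      exact mul_inv_eq_iff_eq_mul.1 h2
    · intro hg
      apply Subtype.ext
      change (g : T) * a * (g : T)⁻¹ = a
      rw [hg, mul_inv_cancel_right]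
  have h2 := Subgroup.card_mul_index ((centralizer ({(a : T)} : Set T)).subgroupOf P)
  have h3 : Nat.card ↥((centralizer ({(a : T)} : Set T)).subgroupOf P) = Nat.card ↥(P ⊓ centralizer ({(a : T)} : Set T)) := by
    rw [← Subgroup.inf_subgroupOf_left]
    exact Nat.card_congr (Subgroup.subgroupOfEquivOfLe inf_le_left).toEquiv
  have h4 := h a a.2
  rw [h1]
  rw [← h2, h3, mul_comm d] at h4
  exact Nat.dvd_of_mul_dvd_mul_left Nat.card_pos h4

end orbits

/-! ### the top of a subgroup -/

section top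

variable {T : Type u} [Group T] [Finite T] {n : ℕ} {l : List (ℕ × ℕ)} {r : ℕ} {R : Subgroup T}

omit [Finite T] in
theorem dvd_n (hn : Nat.card T = n) : Nat.card R ∣ n := by
  rw [← hn]
  exact Subgroup.card_subgroup_dvd_card R

theorem card_lt (hn : Nat.card T = n) (hR : R ≠ ⊤) : Nat.card R < n := by
  rw [← hn]
  refine lt_of_le_of_ne (Nat.le_of_dvd Nat.card_pos (Subgroup.card_subgroup_dvd_card R)) fun h => hR ?_
  exact Subgroup.eq_top_of_card_eq R h

/-- **The top of `R`**, `r` self-centralizing, `s` another prime. -/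
theorem exists_main (tab : OrderTable.{u}) (known : Known.{u}) (hn : Nat.card T = n) (hv : OrdDiv.valid l n = true)
    (hr : r.Prime) (h2 : ¬ r ^ 2 ∣ n) (self : SelfC T r) (hR : R ≠ ⊤) (hdR : r ∣ Nat.card R) {s : ℕ} (hs : s.Prime)
    (hsR : s ∣ Nat.card R) (hok : okPair n l r s = true) :
    ∃ (O : Subgroup R) (_ : O.Normal) (N : Subgroup (R ⧸ O)) (g : Grp), Top R r O N ∧ g ∈ surv n l r [s] ∧
      Real g N ∧ Nat.card N = ordN g ∧ Nat.card R = ordN g * Nat.card O * N.index ∧ Nat.card O ∣ n / ordN g ∧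
      (∀ q : ℕ, q.Prime → r ≠ q → q ^ (Nat.card O).factorization q % r = 1) ∧
      ((ordN g * Nat.card O / r) % r) * N.index ∣ (n / r) % r := by
  have hdn : Nat.card R ∣ n := dvd_n hn
  obtain ⟨O, hO, N, h⟩ := Cfsg.Agent.H257.El.exists_top hr hdR fun h3 => h2 (h3.trans hdn)
  have hok' := hok
  unfold okPair at hok
  rw [Bool.and_eq_true, Bool.and_eq_true, Bool.and_eq_true] at hok
  obtain ⟨⟨⟨h1, h2'⟩, h3⟩, h4⟩ := hok
  have h1' : r ≠ s := by simpa using h1
  have h2'' : ¬ s ∣ r - 1 := by
    intro hd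
    rw [Nat.mod_eq_zero_of_dvd hd] at h2'
    exact absurd h2' (by decide)
  have hnoR : ∀ {q : ℕ}, q.Prime → r ≠ q → ∀ z : R, orderOf z ≠ r * q := fun hq hrq z =>
    noOrd_of_cent hr (self.sub R) hq hrq z
  have hsN : s ∣ Nat.card N := h.dvd_simple hs h1' (hnoR hs h1')
    (fun _ hb hd => okPow_spec hv h4 hs hb (hd.trans hdn)) h2'' hsR
  have hsim := h.simple
  have hNR : Nat.card N ∣ Nat.card R := by
    refine (Subgroup.card_subgroup_dvd_card N).trans ?_
    rw [← card_quot_mul O]
    exact dvd_mul_right _ _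
  have hNn : Nat.card N ∣ n := hNR.trans hdn
  have hna : ¬ ∀ a b : N, a * b = b * a := Sit.not_comm_of_dvd h hs h1' hsN
  obtain ⟨g, hg, hr', hc⟩ := exists_good tab (known N) hna hv hNn
  have hcR : Nat.card R = ordN g * Nat.card O * N.index := by
    rw [← hc, ← card_quot_mul O, ← Subgroup.card_mul_index N]
    ring
  have hpos : 0 < ordN g := by rw [← hc]; exact Nat.card_pos
  refine ⟨O, hO, N, g, h, List.mem_filter.2 ⟨hg, ?_⟩, hr', hc, hcR, ?_, fun q hq hrq => core_mod h (self.sub R) hq hrq,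
    ?_⟩
  · unfold okG
    rw [Bool.and_eq_true, Bool.and_eq_true, List.all_eq_true]
    refine ⟨⟨?_, ?_⟩, fun t ht => ?_⟩
    · rw [← hc, Nat.mod_eq_zero_of_dvd h.dvd]; rfl
    · rw [← hc]
      have h1 : Nat.card N ≤ Nat.card R := Nat.le_of_dvd Nat.card_pos hNR
      have h2 := card_lt hn hR
      have h3 : Nat.card N ≠ n := by omega
      simpa using h3
    · rw [List.mem_singleton] at ht
      rw [ht, ← hc, Nat.mod_eq_zero_of_dvd hsN]; rfl
  · have h5 : ordN g * Nat.card O ∣ n := by
      refine (?_ : ordN g * Nat.card O ∣ Nat.card R).trans hdn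
      rw [hcR]
      exact dvd_mul_right _ _
    exact Nat.dvd_div_of_mul_dvd h5
  · rw [← hc, index_top h (self.sub R), ← hn]
    exact dvd_sub hr self (by rw [hn]; exact h2) R hdR

end top

end Cfsg.Agent.H602.Der
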